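import Cfsg.Agent.Zassenhaus.Normal
import Cfsg.Agent.PermB.ZassOdd
import Cfsg.Agent.PermB.Sharp3Index
import Cfsg.Agent.PermB.IndexTwo
import Cfsg.Agent.PermB.Recognition
import Mathlib.GroupTheory.Transfer
import Mathlib.GroupTheory.Perm.Cycle.Type

/-!
# Simple Zassenhaus groups with two point stabilisers of even order; cyclicity
-/

set_option autoImplicit false
set_option linter.style.haveILetI false
set_option maxHeartbeats 400000

namespace Cfsg.Agent.Zassenhaus

open MulAction Cfsg.Agent.PermB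

variable {G Ω : Type*} [Group G] [MulAction G Ω]

/-- A simple Zassenhaus group is not commutative. -/
theorem exists_not_comm [Finite Ω] (hZ : Cfsg.IsZassenhausGroup G Ω) : ∃ x y : G, x * y ≠ y * x := by
  haveI := hZ.1
  have hz := zData_of_isZassenhausGroup hZ
  obtain ⟨g, hg1, a, b, hab, hga, hgb⟩ := hZ.2.2.2.1
  by_contra hne
  push Not at hne
  refine hg1 (hz.faithful g fun y => ?_)
  haveI := hz.isPretransitive
  obtain ⟨k, rfl⟩ := IsPretransitive.exists_smul_eq (M := G) a y
  rw [← mul_smul, hne, mul_smul, hga]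

theorem monoidHom_eq_one [IsSimpleGroup G] (hnc : ∃ x y : G, x * y ≠ y * x) {A : Type*} [CommGroup A]
    (f : G →* A) (g : G) : f g = 1 := by
  rcases (inferInstance : f.ker.Normal).eq_bot_or_eq_top with h | h
  · exfalso
    obtain ⟨x, y, hxy⟩ := hnc
    exact hxy ((MonoidHom.ker_eq_bot_iff f).1 h (by rw [map_mul, map_mul, mul_comm]))
  · exact MonoidHom.mem_ker.1 (h ▸ Subgroup.mem_top g)

/-- In an even permutation group an involution with exactly two fixed points forces
`n - 2` to be divisible by four. -/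
theorem four_dvd_of_involution [Fintype Ω] [DecidableEq Ω] [FaithfulSMul G Ω] {t : G} (ht : orderOf t = 2)
    {a b : Ω} (hab : a ≠ b) (hfix : ∀ y, t • y = y ↔ y = a ∨ y = b)
    (hsign : Equiv.Perm.sign (MulAction.toPermHom G Ω t) = 1) :
    4 ∣ Fintype.card Ω - 2 := by
  set σ := MulAction.toPermHom G Ω t with hσ
  have hord : orderOf σ = 2 := by
    rw [hσ, orderOf_injective (MulAction.toPermHom G Ω) MulAction.toPerm_injective, ht]
  obtain ⟨n, hn⟩ := Equiv.Perm.cycleType_prime_order (σ := σ) (by rw [hord]; exact Nat.prime_two)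
  have hsupp : σ.support = Finset.univ \ {a, b} := by
    ext y
    simp only [Equiv.Perm.mem_support, Finset.mem_sdiff, Finset.mem_univ, true_and,
      Finset.mem_insert, Finset.mem_singleton]
    exact not_congr (hfix y)
  have hsum := Equiv.Perm.sum_cycleType σ
  rw [hn, hord, Multiset.sum_replicate, hsupp, Finset.card_univ_diff, Finset.card_pair hab,
    smul_eq_mul] at hsum
  rw [Equiv.Perm.sign_of_cycleType, hn, hord, Multiset.sum_replicate, Multiset.card_replicate,
    smul_eq_mul] at hsign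
  have hev : Even ((n + 1) * 2 + (n + 1)) := by
    rcases Nat.even_or_odd ((n + 1) * 2 + (n + 1)) with h | h
    · exact h
    · rw [h.neg_one_pow] at hsign
      exact absurd hsign (by decide)
  obtain ⟨r, hr⟩ := hev
  omega

/-- A sharply triply transitive Zassenhaus group of even degree is not simple. -/
theorem not_sharp_of_simple [Finite Ω] [Finite G] [IsSimpleGroup G]
    (hZ : Cfsg.IsZassenhausGroup G Ω) {a b : Ω} (hab : a ≠ b)
    (hd : Even (Nat.card (ZData.H2 (G := G) a b))) :
    Nat.card (ZData.H2 (G := G) a b) + 2 ≠ Nat.card Ω := by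
  classical
  intro hdn
  haveI := hZ.1
  haveI : Fintype Ω := Fintype.ofFinite Ω
  haveI : Fintype G := Fintype.ofFinite G
  have hnc := exists_not_comm hZ
  have hz := zData_of_isZassenhausGroup hZ
  have h3Ω := three_le_card_of_isZassenhausGroup hZ
  have hevΩ : Even (Nat.card Ω) := by
    obtain ⟨r, hr⟩ := hd
    exact ⟨r + 1, by omega⟩
  set X : Subgroup G := ZData.H2 a b with hX
  -- triple transitivity
  have hreg : ∀ {p q x y : Ω}, p ≠ q → x ≠ p → x ≠ q → y ≠ p → y ≠ q →
      ∃ g : G, g • p = p ∧ g • q = q ∧ g • x = y := by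
    intro p q x y hpq hxp hxq hyp hyq
    let f : ZData.H2 (G := G) p q → {z : Ω // z ≠ p ∧ z ≠ q} := fun g => ⟨(g : G) • x,
      fun e => hxp (MulAction.injective (g : G) (e.trans (ZData.mem_H2.1 g.2).1.symm)),
      fun e => hxq (MulAction.injective (g : G) (e.trans (ZData.mem_H2.1 g.2).2.symm))⟩
    have hf : Function.Injective f := fun g k e =>
      Subtype.ext (hz.eq_of_H2_smul_eq hpq hxp hxq g.2 k.2 (congrArg Subtype.val e))
    have hcard : Nat.card {z : Ω // z ≠ p ∧ z ≠ q} = Nat.card (ZData.H2 (G := G) p q) := by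
      rw [hz.card_H2_eq hab hpq, ← hX]
      have : Nat.card {z : Ω // z ≠ p ∧ z ≠ q} = Nat.card Ω - 2 := by
        rw [Nat.card_eq_fintype_card, Nat.card_eq_fintype_card, Fintype.card_subtype,
          ← Finset.card_pair hpq, ← Finset.card_univ_diff]
        congr 1
        ext z; simp
      omega
    have hb := (Nat.bijective_iff_injective_and_card f).2 ⟨hf, hcard.symm⟩
    obtain ⟨g, hg⟩ := hb.2 ⟨y, hyp, hyq⟩
    exact ⟨g, (ZData.mem_H2.1 g.2).1, (ZData.mem_H2.1 g.2).2, congrArg Subtype.val hg⟩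
  have h3 : IsMultiplyPretransitive G Ω 3 := by
    rw [PermLib.three_pretransitive_iff]
    intro p q r p' q' r' hpq hpr hqr hpq' hpr' hqr'
    obtain ⟨k, hkp, hkq⟩ := hz.two hpq hpq'
    obtain ⟨g, hgp, hgq, hgr⟩ := hreg (x := k • r) (y := r') hpq'
      (by rw [← hkp]; exact fun e => hpr (MulAction.injective k e).symm)
      (by rw [← hkq]; exact fun e => hqr (MulAction.injective k e).symm) hpr'.symm hqr'.symm
    exact ⟨g * k, by rw [mul_smul, hkp, hgp], by rw [mul_smul, hkq, hgq], by rw [mul_smul, hgr]⟩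
  -- a swapper with a fixed point
  have hcount := hz.two_mul_card_swappers hab h3Ω hd
  set Sw : Set G := {t : G | t * t = 1 ∧ t ≠ 1 ∧ (∃ x : Ω, t • x = x) ∧ t • a = b} with hSw
  obtain ⟨s, hss, hs1, ⟨c, hsc⟩, hsa⟩ : Sw.Nonempty := by
    rw [← Set.ncard_pos]
    obtain ⟨r, hr⟩ := hd
    have : 0 < Nat.card X := Nat.card_pos
    omega
  have hsb : s • b = a := by rw [← hsa, ← mul_smul, hss, one_smul]
  have hca : c ≠ a := fun e => hab (by rw [e] at hsc; exact hsc.symm.trans hsa)
  have hcb : c ≠ b := fun e => hab (by rw [e] at hsc; exact hsb.symm.trans hsc)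
  have hsX : s ∉ X := fun h => hab ((ZData.mem_H2.1 h).1.symm.trans hsa)
  have hsinv : s⁻¹ = s := inv_eq_of_mul_eq_one_right hss
  let σ : X ≃* X :=
    { toFun := fun h => ⟨s * h * s⁻¹, ZData.swap_conj_mem hsa hsb h.2⟩
      invFun := fun h => ⟨s * h * s⁻¹, ZData.swap_conj_mem hsa hsb h.2⟩
      left_inv := fun h => Subtype.ext (by
        show s * (s * h * s⁻¹) * s⁻¹ = h
        rw [hsinv]
        calc s * (s * h * s) * s = (s * s) * h * (s * s) := by group
          _ = h := by rw [hss, one_mul, mul_one])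
      right_inv := fun h => Subtype.ext (by
        show s * (s * h * s⁻¹) * s⁻¹ = h
        rw [hsinv]
        calc s * (s * h * s) * s = (s * s) * h * (s * s) := by group
          _ = h := by rw [hss, one_mul, mul_one])
      map_mul' := fun g h => Subtype.ext (by simp [mul_assoc]) }
  obtain ⟨L, hL, hLinv⟩ := PermB.IndexTwo.exists_invariant_index_two σ
    (fun h => σ.left_inv h) (hz.exists_index_two_H2 h3Ω hevΩ h3 hab)
  have hLmul : ∀ x y, x * y ∈ L ↔ (x ∈ L ↔ y ∈ L) := fun x y =>
    Subgroup.mul_mem_iff_of_index_two hL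
  have hσL : ∀ x, σ x ∈ L ↔ x ∈ L := fun x =>
    ⟨fun h => by
      have := hLinv _ h
      rwa [show σ (σ x) = x from σ.left_inv x] at this, hLinv x⟩
  -- the involution of the two point stabiliser
  obtain ⟨t, htX, htt, ht1⟩ := ZData.exists_involution_H2 (G := G) hd
  have htord : orderOf t = 2 := orderOf_eq_prime (by rw [sq, htt]) ht1
  have htfix : ∀ y, t • y = y ↔ y = a ∨ y = b := by
    intro y
    refine ⟨fun hy => ?_, ?_⟩
    · by_contra hne
      push Not at hne
      exact ht1 (hz.three t hab hne.2.symm hne.1.symm (ZData.mem_H2.1 htX).1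
        (ZData.mem_H2.1 htX).2 hy)
    · rintro (rfl | rfl)
      exacts [(ZData.mem_H2.1 htX).1, (ZData.mem_H2.1 htX).2]
  have hfour : 4 ∣ Fintype.card Ω - 2 := four_dvd_of_involution htord hab htfix
    (monoidHom_eq_one hnc (Equiv.Perm.sign.comp (MulAction.toPermHom G Ω)) t)
  have hLcard : Nat.card L * 2 = Nat.card X := by rw [← hL, Subgroup.card_mul_index]
  have htL : (⟨t, htX⟩ : X) ∈ L := by
    rw [← Nat.card_eq_fintype_card] at hfour
    obtain ⟨u, hu⟩ := exists_prime_orderOf_dvd_card' (G := L) 2 (by omega)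
    have hu' : orderOf ((u : X) : G) = 2 := by rw [Subgroup.orderOf_coe, Subgroup.orderOf_coe, hu]
    have e : ((u : X) : G) = t := hz.involution_unique hab h3Ω hd (u : X).2
      (by rw [← sq, ← hu', pow_orderOf_eq_one])
      (fun e => by rw [e, orderOf_one] at hu'; omega) htX htt ht1
    exact (show (u : X) = ⟨t, htX⟩ from Subtype.ext e) ▸ u.2
  -- the set stabiliser and its subgroup of index two
  have hnormX : ∀ x ∈ X, s * x * s⁻¹ ∈ X := fun x hx => ZData.swap_conj_mem hsa hsb hx
  have hswapX : ∀ {g : G}, g • a = b → g • b = a → s * g ∈ X := fun {g} hga hgb =>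
    ZData.mem_H2.2 ⟨by rw [mul_smul, hga, hsb], by rw [mul_smul, hgb, hsa]⟩
  let C : Subgroup G :=
    { carrier := {g | g ∈ X ∨ s * g ∈ X}
      one_mem' := Or.inl X.one_mem
      mul_mem' := by
        rintro g k (hg | hg) (hk | hk)
        · exact Or.inl (X.mul_mem hg hk)
        · refine Or.inr ?_
          rw [show s * (g * k) = (s * g * s⁻¹) * (s * k) by group]
          exact X.mul_mem (hnormX g hg) hk
        · refine Or.inr ?_
          rw [← mul_assoc]
          exact X.mul_mem hg hk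
        · refine Or.inl ?_
          rw [show g * k = s⁻¹ * (s * g) * s * (s * s)⁻¹ * (s * k) by group, hss, inv_one, mul_one]
          refine X.mul_mem ?_ hk
          have := hnormX _ hg
          rw [hsinv] at this ⊢
          exact this
      inv_mem' := by
        rintro g (hg | hg)
        · exact Or.inl (X.inv_mem hg)
        · refine Or.inr ?_
          rw [show s * g⁻¹ = s * (s * g)⁻¹ * s⁻¹ * (s * s) by group, hss, mul_one]
          exact hnormX _ (X.inv_mem hg) }
  have hXC : X ≤ C := fun x hx => Or.inl hx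
  have hnot : ∀ {g : G}, g ∈ X → s * g ∉ X := fun {g} hg h =>
    hsX (by simpa using X.mul_mem h (X.inv_mem hg))
  let φ : C →* ℤˣ :=
    { toFun := fun g => if (∃ h : (g : G) ∈ X, (⟨g, h⟩ : X) ∈ L) ∨
          (∃ h : s * (g : G) ∈ X, (⟨s * g, h⟩ : X) ∈ L) then 1 else -1
      map_one' := if_pos (Or.inl ⟨X.one_mem, L.one_mem⟩)
      map_mul' := by
        have hval : ∀ (g : C) (x : X), (x : G) = g ∨ (x : G) = s * g →
            ((∃ h : (g : G) ∈ X, (⟨g, h⟩ : X) ∈ L) ∨
              (∃ h : s * (g : G) ∈ X, (⟨s * g, h⟩ : X) ∈ L) ↔ x ∈ L) := by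
          rintro g ⟨x, hx⟩ (rfl | rfl)
          · exact ⟨fun h => h.elim (fun ⟨_, h⟩ => h) (fun ⟨h, _⟩ => absurd h (hnot hx)),
              fun h => Or.inl ⟨hx, h⟩⟩
          · exact ⟨fun h => h.elim (fun ⟨h, _⟩ => absurd hx (hnot h)) (fun ⟨_, h⟩ => h),
              fun h => Or.inr ⟨hx, h⟩⟩
        have key : ∀ (p q : Prop) [Decidable p] [Decidable q] [Decidable (p ↔ q)],
            (if (p ↔ q) then (1 : ℤˣ) else -1) =
              (if p then 1 else -1) * (if q then 1 else -1) := by
          intro p q _ _ _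
          by_cases hp : p <;> by_cases hq : q <;> simp [hp, hq]
        intro g k
        obtain ⟨x, hx⟩ : ∃ x : X, (x : G) = g ∨ (x : G) = s * g :=
          g.2.elim (fun h => ⟨⟨g, h⟩, Or.inl rfl⟩) (fun h => ⟨⟨s * g, h⟩, Or.inr rfl⟩)
        obtain ⟨y, hy⟩ : ∃ y : X, (y : G) = k ∨ (y : G) = s * k :=
          k.2.elim (fun h => ⟨⟨k, h⟩, Or.inl rfl⟩) (fun h => ⟨⟨s * k, h⟩, Or.inr rfl⟩)
        rw [← key]
        refine if_congr ?_ rfl rfl
        rw [hval g x hx, hval k y hy]
        rcases hy with hy | hy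
        · rw [hval (g * k) (x * y) ?_, hLmul]
          rcases hx with hx | hx
          · left; rw [Subgroup.coe_mul, Subgroup.coe_mul, hx, hy]
          · right; rw [Subgroup.coe_mul, Subgroup.coe_mul, hx, hy, mul_assoc]
        · rw [hval (g * k) (σ x * y) ?_, hLmul, hσL]
          rcases hx with hx | hx
          · right
            show s * (x : G) * s⁻¹ * (y : G) = s * ((g : G) * k)
            rw [hx, hy]; group
          · left
            show s * (x : G) * s⁻¹ * (y : G) = (g : G) * k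
            rw [hx, hy, show s * (s * (g : G)) * s⁻¹ * (s * (k : G)) = (s * s) * ((g : G) * k) by
              group, hss, one_mul] }
  have hφX : ∀ (x : X), φ ⟨x, hXC x.2⟩ = 1 ↔ x ∈ L := by
    intro x
    show (if _ then (1 : ℤˣ) else -1) = 1 ↔ _
    by_cases hxL : x ∈ L
    · exact iff_of_true (if_pos (Or.inl ⟨x.2, hxL⟩)) hxL
    · refine iff_of_false ?_ hxL
      rw [if_neg]
      · decide
      · rintro (⟨_, h⟩ | ⟨h, _⟩)
        · exact hxL h
        · exact hnot x.2 h
  have hsC : s ∈ C := Or.inr (by rw [hss]; exact X.one_mem)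
  have hφs : φ ⟨s, hsC⟩ = 1 :=
    if_pos (Or.inr ⟨by rw [hss]; exact X.one_mem, by
      have e : (⟨s * s, by rw [hss]; exact X.one_mem⟩ : X) = 1 := Subtype.ext hss
      rw [e]; exact L.one_mem⟩)
  -- every involution of `C` with a fixed point has value one
  have hconj : ∀ y ∈ Sw, ∃ k ∈ X, k * s * k⁻¹ = y := by
    let f : X → G := fun k => (k : G) * s * (k : G)⁻¹
    have himg : Set.range f ⊆ Sw := by
      rintro _ ⟨⟨k, hk⟩, rfl⟩
      obtain ⟨hka, hkb⟩ := ZData.mem_H2.1 hk
      refine ⟨?_, fun e => hs1 (conj_eq_one_iff.1 e), ⟨k • c, ?_⟩, ?_⟩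
      · show k * s * k⁻¹ * (k * s * k⁻¹) = 1
        calc k * s * k⁻¹ * (k * s * k⁻¹) = k * (s * s) * k⁻¹ := by group
          _ = 1 := by rw [hss]; group
      · show (k * s * k⁻¹) • k • c = k • c
        rw [mul_smul, inv_smul_smul, mul_smul, hsc]
      · show (k * s * k⁻¹) • a = b
        rw [mul_smul, mul_smul, inv_smul_eq_iff.2 hka.symm, hsa, hkb]
    have hfib : ∀ y ∈ Finset.univ.image f,
        (Finset.univ.filter fun k : X => f k = y).card ≤ 2 := by
      intro y hy
      obtain ⟨k₀, -, rfl⟩ := Finset.mem_image.1 hy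
      have hle := (hz.card_fixedBy_involution hss hs1).1
      rw [Nat.card_eq_fintype_card] at hle
      refine le_trans ?_ hle
      rw [← Finset.card_univ]
      refine Finset.card_le_card_of_injOn (fun k => ?_) (fun _ _ => Finset.mem_univ _) ?_
      · exact if h : s • ((k₀ : G)⁻¹ * (k : G)) • c = ((k₀ : G)⁻¹ * (k : G)) • c then ⟨_, h⟩
          else ⟨c, hsc⟩
      · intro k hk l hl e
        simp only [Finset.coe_filter, Set.mem_setOf_eq, Finset.mem_univ, true_and] at hk hl
        have hf' : ∀ k : X, f k = f k₀ →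
            s • ((k₀ : G)⁻¹ * (k : G)) • c = ((k₀ : G)⁻¹ * (k : G)) • c := fun k hk => by
          have e1 : s * ((k₀ : G)⁻¹ * k) = ((k₀ : G)⁻¹ * k) * s := by
            have hk' : (k : G) * s * (k : G)⁻¹ = (k₀ : G) * s * (k₀ : G)⁻¹ := hk
            calc s * ((k₀ : G)⁻¹ * k) = (k₀ : G)⁻¹ * ((k₀ : G) * s * (k₀ : G)⁻¹) * k := by group
              _ = (k₀ : G)⁻¹ * ((k : G) * s * (k : G)⁻¹) * k := by rw [hk']
              _ = ((k₀ : G)⁻¹ * k) * s := by group
          rw [← mul_smul, e1, mul_smul, hsc]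
        simp only [dif_pos (hf' k hk), dif_pos (hf' l hl)] at e
        exact Subtype.ext (mul_left_cancel (hz.eq_of_H2_smul_eq hab hca hcb
          (X.mul_mem (X.inv_mem k₀.2) k.2) (X.mul_mem (X.inv_mem k₀.2) l.2)
          (congrArg Subtype.val e)))
    have hge := Finset.card_le_mul_card_image (Finset.univ : Finset X) 2 hfib
    rw [Finset.card_univ, ← Nat.card_eq_fintype_card] at hge
    have hrange : Set.range f = Sw := Set.eq_of_subset_of_ncard_le himg (by
      rw [← Set.image_univ, ← Finset.coe_univ, ← Finset.coe_image, Set.ncard_coe_finset]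
      omega) (Set.toFinite _)
    intro y hy
    obtain ⟨k, hk⟩ := hrange ▸ hy
    exact ⟨k, k.2, hk⟩
  have hinvol : ∀ y : C, (y : G) * y = 1 → (y : G) ≠ 1 → (∃ x : Ω, (y : G) • x = x) → φ y = 1 := by
    rintro ⟨y, hy⟩ hyy hy1 hfix
    rcases hy with hy' | hy'
    · have e : y = t := hz.involution_unique hab h3Ω hd hy' hyy hy1 htX htt ht1
      subst e
      exact (hφX ⟨y, htX⟩).2 htL
    · have hya : y • a = b := by
        have := (ZData.mem_H2.1 hy').1
        rw [mul_smul, ← eq_inv_smul_iff, hsinv, hsa] at this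
        exact this
      obtain ⟨k, hk, hks⟩ := hconj y ⟨hyy, hy1, hfix, hya⟩
      have e : (⟨y, Or.inr hy'⟩ : C) = ⟨k, hXC hk⟩ * ⟨s, hsC⟩ * (⟨k, hXC hk⟩ : C)⁻¹ :=
        Subtype.ext hks.symm
      show φ ⟨y, Or.inr hy'⟩ = 1
      rw [e, map_mul, map_mul, map_inv, hφs, mul_one, mul_inv_cancel]
  -- a 2-element outside `L`
  obtain ⟨x₀, hx₀⟩ : ∃ x : X, x ∉ L := by
    by_contra hne
    push Not at hne
    rw [(Subgroup.eq_top_iff' L).2 hne, Subgroup.index_top] at hL
    omega
  obtain ⟨e, r, hodd, her⟩ := Nat.exists_eq_two_pow_mul_odd (orderOf_pos x₀).ne'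
  set u : X := x₀ ^ r with hu
  have huL : u ∉ L := by
    obtain ⟨j, rfl⟩ := hodd
    rw [hu, pow_succ, pow_mul, hLmul]
    intro h
    exact hx₀ (h.1 (L.pow_mem ((hLmul _ _).2 Iff.rfl |> fun h => by rwa [sq]) j))
  have huo : ((u : G)) ^ 2 ^ e = 1 := by
    rw [← Subgroup.coe_pow, hu, ← pow_mul, mul_comm, ← her, pow_orderOf_eq_one, Subgroup.coe_one]
  have hufix : ∀ ℓ : ℕ, ∀ x, x = a ∨ x = b → ((u : G) ^ ℓ) • x = x := fun ℓ x hx => by
    have := ZData.mem_H2.1 (X.pow_mem u.2 ℓ)
    rcases hx with rfl | rfl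
    exacts [this.1, this.2]
  -- the transfer of `u`
  let v : G := (u : G)
  have hterm : ∀ g : G, ∀ ℓ : ℕ, ∀ hy : g⁻¹ * v ^ ℓ * g ∈ C, g ∉ C → φ ⟨_, hy⟩ = 1 := by
    intro g ℓ hy hg
    by_cases hy1 : g⁻¹ * v ^ ℓ * g = 1
    · have : (⟨_, hy⟩ : C) = 1 := Subtype.ext hy1
      rw [this, map_one]
    refine hinvol ⟨_, hy⟩ ?_ hy1 ⟨g⁻¹ • a, ?_⟩
    · -- the square fixes both points, so `g` fixes the pair or the square is trivial
      show g⁻¹ * v ^ ℓ * g * (g⁻¹ * v ^ ℓ * g) = 1
      have hsqX : g⁻¹ * v ^ ℓ * g * (g⁻¹ * v ^ ℓ * g) ∈ X := by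
        rcases hy with h | h
        · exact X.mul_mem h h
        · have := X.mul_mem (hnormX _ h) h
          rw [hsinv, show s * (s * (g⁻¹ * v ^ ℓ * g)) * s * (s * (g⁻¹ * v ^ ℓ * g)) =
            (s * s) * (g⁻¹ * v ^ ℓ * g) * (s * s) * (g⁻¹ * v ^ ℓ * g) by group, hss, one_mul,
            mul_one] at this
          exact this
      rw [show g⁻¹ * v ^ ℓ * g * (g⁻¹ * v ^ ℓ * g) = g⁻¹ * v ^ (ℓ + ℓ) * g by rw [pow_add]; group]
        at hsqX ⊢
      by_contra hne
      refine hg ?_
      have hne' : v ^ (ℓ + ℓ) ≠ 1 := fun e => hne (by rw [e]; group)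
      have hgfix : ∀ x, x = a ∨ x = b → g • x = a ∨ g • x = b := by
        intro x hx
        by_contra hno
        push Not at hno
        refine hne' (hz.three _ hab hno.2.symm hno.1.symm (hufix _ a (Or.inl rfl))
          (hufix _ b (Or.inr rfl)) ?_)
        have h1 : (g⁻¹ * v ^ (ℓ + ℓ) * g) • x = x := by
          rcases hx with rfl | rfl
          exacts [(ZData.mem_H2.1 hsqX).1, (ZData.mem_H2.1 hsqX).2]
        rwa [mul_smul, mul_smul, inv_smul_eq_iff] at h1
      rcases hgfix a (Or.inl rfl) with ha | ha <;> rcases hgfix b (Or.inr rfl) with hb | hb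
      · exact absurd (MulAction.injective g (ha.trans hb.symm)) hab
      · exact Or.inl (ZData.mem_H2.2 ⟨ha, hb⟩)
      · exact Or.inr (hswapX ha hb)
      · exact absurd (MulAction.injective g (ha.trans hb.symm)) hab
    · show (g⁻¹ * v ^ ℓ * g) • g⁻¹ • a = g⁻¹ • a
      rw [mul_smul, mul_smul, smul_inv_smul, hufix ℓ a (Or.inl rfl)]
  have hvC : v ∈ C := hXC u.2
  have htr : MonoidHom.transfer φ v = φ ⟨v, hvC⟩ := by
    rw [MonoidHom.transfer_eq_prod_quotient_orbitRel_zpowers_quot]
    set q₀ : Quotient (orbitRel (Subgroup.zpowers v) (G ⧸ C)) :=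
      Quotient.mk _ ((1 : G) : G ⧸ C) with hq₀
    have hbase : v • ((1 : G) : G ⧸ C) = ((1 : G) : G ⧸ C) := by
      rw [MulAction.Quotient.smul_coe, QuotientGroup.eq, smul_eq_mul, mul_one, mul_one]
      exact C.inv_mem hvC
    have hout : q₀.out = ((1 : G) : G ⧸ C) := by
      have h := @Quotient.mk_out _ (orbitRel (Subgroup.zpowers v) (G ⧸ C)) ((1 : G) : G ⧸ C)
      obtain ⟨⟨w, hw⟩, hw'⟩ := h
      rw [← hw']
      obtain ⟨i, rfl⟩ := Subgroup.mem_zpowers_iff.1 hw
      show (v ^ i) • ((1 : G) : G ⧸ C) = _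
      have : v ∈ stabilizer G ((1 : G) : G ⧸ C) := hbase
      exact (stabilizer G ((1 : G) : G ⧸ C)).zpow_mem this i
    rw [Finset.prod_eq_single q₀]
    · set g₀ := q₀.out.out with hg₀
      have hg₀C : g₀ ∈ C := by
        have : (g₀ : G ⧸ C) = ((1 : G) : G ⧸ C) := by
          rw [hg₀, QuotientGroup.out_eq']; exact hout
        rw [QuotientGroup.eq, mul_one] at this
        exact inv_mem_iff.1 this
      have hper : Function.minimalPeriod (v • ·) q₀.out = 1 := by
        rw [hout]
        exact Function.minimalPeriod_eq_one_iff_isFixedPt.2 hbase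
      have : ∀ hh, φ (⟨g₀⁻¹ * v ^ Function.minimalPeriod (v • ·) q₀.out * g₀, hh⟩ : C) =
          φ ⟨v, hvC⟩ := by
        intro hh
        have e : (⟨g₀⁻¹ * v ^ Function.minimalPeriod (v • ·) q₀.out * g₀, hh⟩ : C) =
            (⟨g₀, hg₀C⟩ : C)⁻¹ * ⟨v, hvC⟩ * ⟨g₀, hg₀C⟩ := Subtype.ext (by simp [hper])
        rw [e, map_mul, map_mul, map_inv, mul_comm (φ ⟨g₀, hg₀C⟩)⁻¹, inv_mul_cancel_right]
      exact this _
    · intro q _ hq
      refine hterm _ _ _ fun hg => hq ?_
      rw [← q.out_eq, hq₀]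
      refine congrArg _ ?_
      rw [← QuotientGroup.out_eq' q.out, QuotientGroup.eq, mul_one]
      exact C.inv_mem hg
    · exact fun h => absurd (Finset.mem_univ _) h
  exact huL ((hφX u).1 (htr ▸ monoidHom_eq_one hnc (MonoidHom.transfer φ) v))

/-- The two possible orders of an even two point stabiliser. -/
theorem two_mul_card_H2 [Finite Ω] [Finite G] [IsSimpleGroup G]
    (hZ : Cfsg.IsZassenhausGroup G Ω) {a b : Ω} (hab : a ≠ b)
    (hd : Even (Nat.card (ZData.H2 (G := G) a b))) :
    2 * Nat.card (ZData.H2 (G := G) a b) + 2 = Nat.card Ω := by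
  classical
  haveI : Fintype G := Fintype.ofFinite G
  have hz := zData_of_isZassenhausGroup hZ
  have h3 := three_le_card_of_isZassenhausGroup hZ
  have h1 := hz.card_sub_two_le_two_mul hab h3 hd
  have h2 := hz.card_H2_le hab h3
  have h4 := not_sharp_of_simple hZ hab hd
  obtain ⟨N, hN⟩ := hz.exists_kernel hab
  have hdvd := hN.dvd_card_invariant hz hab.symm ((Finset.univ.filter fun u => u ∈ N).erase 1)
    (fun u hu => by simpa [and_comm] using hu)
    (fun x hx u hu => by
      simp only [Finset.mem_erase, Finset.mem_filter, Finset.mem_univ, true_and] at hu ⊢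
      refine ⟨fun e => hu.1 ?_, hN.conj x (ZData.mem_H2.1 hx).1 u hu.2⟩
      rw [show u = x⁻¹ * (x * u * x⁻¹) * x by group, e]; group)
  have hc := hN.card_add_one hab.symm
  rw [Finset.card_erase_of_mem (by simp), ← Fintype.card_subtype, ← Nat.card_eq_fintype_card,
    show Nat.card {u // u ∈ N} - 1 = Nat.card Ω - 2 by omega] at hdvd
  obtain ⟨k, hk⟩ := hdvd
  have hpos : 0 < Nat.card (ZData.H2 (G := G) a b) := Nat.card_pos
  rcases Nat.lt_or_ge k 3 with hk3 | hk3
  · interval_cases k <;> omega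
  · have := Nat.mul_le_mul_left (Nat.card (ZData.H2 (G := G) a b)) hk3
    omega

/-- In a simple Zassenhaus group a two point stabiliser is cyclic and inverted by an involution. -/
theorem isCyclic_H2 [Finite Ω] [Finite G] [IsSimpleGroup G]
    (hZ : Cfsg.IsZassenhausGroup G Ω) {a b : Ω} (hab : a ≠ b) :
    IsCyclic (ZData.H2 (G := G) a b) ∧ ∃ v : G, orderOf v = 2 ∧ v • a = b ∧ v • b = a ∧
      ∀ h ∈ ZData.H2 (G := G) a b, v * h * v⁻¹ = h⁻¹ := by
  classical
  have hz := zData_of_isZassenhausGroup hZ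
  have h3 := three_le_card_of_isZassenhausGroup hZ
  obtain ⟨s, hs, hsa, hsb⟩ := hz.exists_involution_swap hab
  rcases Nat.even_or_odd (Nat.card (ZData.H2 (G := G) a b)) with hd | hd
  · have h2 := two_mul_card_H2 hZ hab hd
    have hcount := hz.two_mul_card_swappers hab h3 hd
    set S : Set G := {t : G | t • a = b ∧ t • b = a}
    have hsub : {t : G | t * t = 1 ∧ t ≠ 1 ∧ (∃ x : Ω, t • x = x) ∧ t • a = b} ⊆ S :=
      fun t ⟨e1, _, _, e2⟩ => ⟨e2, by rw [← e2, ← mul_smul, e1, one_smul]⟩
    have hle := ZData.ncard_swappers_le (a := a) (b := b) (S := S) fun t ht => ht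
    have heq := Set.eq_of_subset_of_ncard_le hsub (by omega) (Set.toFinite _)
    have hall : ∀ t : G, t • a = b → t • b = a → t * t = 1 := by
      intro t h h'
      have ht : t ∈ S := ⟨h, h'⟩
      rw [← heq] at ht
      exact ht.1
    have hss := hall s hsa hsb
    have hinv : ∀ h ∈ ZData.H2 (G := G) a b, s * h * s⁻¹ = h⁻¹ := by
      intro h hh
      have hh' := ZData.mem_H2.1 hh
      have e := hall (s * h) (by rw [mul_smul, hh'.1, hsa]) (by rw [mul_smul, hh'.2, hsb])
      rw [inv_eq_of_mul_eq_one_right hss, eq_inv_iff_mul_eq_one]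
      calc s * h * s * h = (s * h) * (s * h) := by group
        _ = 1 := e
    obtain ⟨N, hN⟩ := hz.exists_kernel hab
    have hN1 : N ≠ ⊥ := by
      intro h1
      have := hN.card_add_one hab.symm
      rw [h1, Subgroup.card_bot] at this
      omega
    refine ⟨?_, s, hs, hsa, hsb, hinv⟩
    refine FrobeniusCompl.isCyclic_of_le (K := N) (fun x hx => ?_) hN1 (fun x hx h1 => ?_) _ le_rfl
      (Or.inl (isMulCommutative_of_inverted hinv))
    · rw [Subgroup.mem_normalizer_iff]
      refine fun u => ⟨fun hu => hN.conj x (ZData.mem_H2.1 hx).1 u hu, fun hu => ?_⟩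
      have := hN.conj x⁻¹ ((stabilizer G a).inv_mem (ZData.mem_H2.1 hx).1) _ hu
      simpa [mul_assoc] using this
    · rw [Subgroup.eq_bot_iff_forall]
      intro u hu
      by_contra hu1
      refine h1 (hN.eq_one_of_commute hz hab.symm hx hu.1 hu1 ?_)
      rw [Subgroup.mem_centralizer_iff.1 hu.2 x rfl, mul_inv_cancel_right]
  · obtain ⟨hc, hinv⟩ := hz.odd_H2_cyclic h3 hab hd (fun q hq hqd ⟨P, N, hNn, hc⟩ => by
      haveI := Fact.mk hq
      rcases hNn.eq_bot_or_eq_top with h | h
      · obtain ⟨k, hk⟩ := P.2.exists_card_eq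
        have hG := hc.card_mul
        rw [h, Subgroup.card_bot, one_mul, hk] at hG
        have h2 : 2 ∣ q ^ k := hG ▸ hs ▸ orderOf_dvd_natCard s
        have := Nat.prime_two.dvd_of_dvd_pow h2
        have hq2 : 2 ∣ Nat.card (ZData.H2 (G := G) a b) := by
          rw [(Nat.prime_dvd_prime_iff_eq Nat.prime_two hq).1 this]; exact hqd
        exact Nat.not_even_iff_odd.2 hd (even_iff_two_dvd.2 hq2)
      · have hG := hc.card_mul
        rw [h, Subgroup.card_top] at hG
        have hP : Nat.card P = 1 := by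
          have := Nat.eq_of_mul_eq_mul_left Nat.card_pos (hG.trans (mul_one _).symm)
          exact this
        rw [P.card_eq_multiplicity] at hP
        have hqG : q ∣ Nat.card G := hqd.trans (Subgroup.card_subgroup_dvd_card _)
        have := hq.factorization_pos_of_dvd Nat.card_pos.ne' hqG
        have := Nat.one_lt_pow this.ne' hq.one_lt
        omega)
    exact ⟨hc, s, hs, hsa, hsb, hinv s hsa hsb⟩

end Cfsg.Agent.Zassenhaus
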