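import Cfsg.Agent.PermB.ZassPrelude
import Cfsg.Agent.PermB.ZassFrobenius
import Cfsg.Agent.PermB.Sharp3
import Cfsg.Agent.CharInd.Frobenius
import Mathlib.GroupTheory.GroupAction.MultipleTransitivity

/-!
# Normal subgroups of Zassenhaus groups
-/

set_option autoImplicit false
set_option linter.style.haveILetI false

namespace Cfsg.Agent.Zassenhaus

open MulAction Cfsg.Agent.PermB

variable {G Ω : Type*} [Group G] [MulAction G Ω]

theorem finite_group [Finite Ω] (hZ : Cfsg.IsZassenhausGroup G Ω) : Finite G := by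
  haveI := hZ.1
  exact Finite.of_injective (MulAction.toPerm : G → Equiv.Perm Ω) MulAction.toPerm_injective

/-- A regular normal subgroup of a 2-transitive group is unique, hence normal in every group
normalising it. -/
theorem regular_normal_unique [Finite Ω] [FaithfulSMul G Ω]
    (h2 : IsMultiplyPretransitive G Ω 2) {R R' : Subgroup G} [R.Normal] [R'.Normal]
    [IsPretransitive R Ω] [IsPretransitive R' Ω] {a : Ω} (hR : stabilizer R a = ⊥)
    (hR' : stabilizer R' a = ⊥) : R = R' := by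
  haveI : Finite G := Finite.of_injective (MulAction.toPerm : G → Equiv.Perm Ω) MulAction.toPerm_injective
  haveI : IsPreprimitive G Ω := isPreprimitive_of_is_two_pretransitive h2
  have hc := card_eq (R := R) hR
  have hc' := card_eq (R := R') hR'
  by_cases hbot : R ⊓ R' = ⊥
  · -- the two subgroups commute, hence one centralises a regular abelian subgroup
    have hcomm : ∀ x ∈ R, ∀ y ∈ R', x * y = y * x := fun x hx y hy =>
      Subgroup.commute_of_normal_of_disjoint R R' inferInstance inferInstance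
        (disjoint_iff.2 hbot) x y hx hy
    obtain ⟨hab, -⟩ := PermLib.elementary_of_regular_normal h2 hR
    have hle : R' ≤ R := by
      intro y hy
      obtain ⟨x, hx⟩ := IsPretransitive.exists_smul_eq (M := R) a (y • a)
      have hfix : ((x : G)⁻¹ * y) • a = a := by
        rw [mul_smul, inv_smul_eq_iff]; exact hx.symm
      have : (x : G)⁻¹ * y = 1 := by
        refine FaithfulSMul.eq_of_smul_eq_smul (α := Ω) fun b => ?_
        obtain ⟨z, rfl⟩ := IsPretransitive.exists_smul_eq (M := R) a b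
        show ((x : G)⁻¹ * y) • (z : G) • a = (1 : G) • (z : G) • a
        have hcm : (x : G)⁻¹ * z = z * (x : G)⁻¹ :=
          congrArg Subtype.val (hab.is_comm.comm x⁻¹ z)
        rw [one_smul, ← mul_smul, show (x : G)⁻¹ * y * z = z * ((x : G)⁻¹ * y) by
          rw [mul_assoc, ← hcomm z z.2 y hy, ← mul_assoc, hcm, mul_assoc], mul_smul, hfix]
      rw [inv_mul_eq_one] at this
      exact this ▸ x.2
    exact (Subgroup.eq_of_le_of_card_ge hle (by rw [hc, hc'])).symm
  · haveI : IsPretransitive (R ⊓ R' : Subgroup G) Ω :=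
      PermLib.isPretransitive_of_normal_ne_bot hbot
    have h1 : stabilizer (R ⊓ R' : Subgroup G) a = ⊥ := by
      rw [Subgroup.eq_bot_iff_forall]
      intro x hx
      exact Subtype.ext (congrArg (fun z : R => (z : G))
        ((Subgroup.eq_bot_iff_forall _).1 hR ⟨x, x.2.1⟩ hx))
    have e1 := Subgroup.eq_of_le_of_card_ge (inf_le_left : R ⊓ R' ≤ R) (by rw [hc, card_eq h1])
    have e2 := Subgroup.eq_of_le_of_card_ge (inf_le_right : R ⊓ R' ≤ R') (by rw [hc', card_eq h1])
    rw [← e1, e2]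
where
  card_eq {R : Subgroup G} [IsPretransitive R Ω] {a : Ω} (hR : stabilizer R a = ⊥) :
      Nat.card R = Nat.card Ω := PermLib.card_eq_of_regular hR

/-- A non-trivial normal subgroup of a Zassenhaus group is two-transitive and has an element with
two fixed points. -/
theorem normal_two_fix [Finite Ω] (hZ : Cfsg.IsZassenhausGroup G Ω) (N : Subgroup G) [N.Normal]
    (hN : N ≠ ⊥) : IsMultiplyPretransitive N Ω 2 ∧
      ∃ g : G, g ∈ N ∧ g ≠ 1 ∧ ∃ a b : Ω, a ≠ b ∧ g • a = a ∧ g • b = b := by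
  classical
  haveI := hZ.1
  haveI : Finite G := finite_group hZ
  have hz := zData_of_isZassenhausGroup hZ
  haveI : IsPreprimitive G Ω := isPreprimitive_of_is_two_pretransitive hZ.2.1
  haveI : IsPretransitive N Ω := PermLib.isPretransitive_of_normal_ne_bot hN
  obtain ⟨a, hstab⟩ := hZ.2.2.2.2 N inferInstance inferInstance
  -- some element of `N` fixes two points
  have hfix : ∃ g : G, g ∈ N ∧ g ≠ 1 ∧ ∃ a b : Ω, a ≠ b ∧ g • a = a ∧ g • b = b := by
    by_contra hne
    push Not at hne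
    have hTI : ∀ g : N, g ∉ stabilizer N a → ∀ x ∈ stabilizer N a,
        g * x * g⁻¹ ∈ stabilizer N a → x = 1 := by
      intro g hg x hx hxg
      by_contra hx1
      have h1 : (x : N) • g⁻¹ • a = g⁻¹ • a := by
        have := mem_stabilizer_iff.1 hxg
        rwa [mul_smul, mul_smul, ← eq_inv_smul_iff] at this
      have h2 : g⁻¹ • a ≠ a := fun e => hg (mem_stabilizer_iff.2 (inv_smul_eq_iff.1 e).symm)
      exact hne x x.2 (fun e => hx1 (Subtype.ext e)) _ _ h2 h1 hx
    obtain ⟨K, hKn, hKmem, hKc⟩ := CharInd.frobenius_kernel (stabilizer N a) hTI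
    have hKt : IsPretransitive K Ω := by
      have hsup : ∀ g : N, ∃ k ∈ K, ∃ h ∈ stabilizer N a, g = k * h := by
        intro g
        obtain ⟨⟨⟨k, hk⟩, ⟨h, hh⟩⟩, e⟩ := hKc.2 g
        exact ⟨k, hk, h, hh, e.symm⟩
      have hbase : ∀ y, ∃ k : K, k • a = y := fun y => by
        obtain ⟨g, hg⟩ := IsPretransitive.exists_smul_eq (M := N) a y
        obtain ⟨k, hk, h, hh, rfl⟩ := hsup g
        exact ⟨⟨k, hk⟩, by rw [mul_smul, mem_stabilizer_iff.1 hh] at hg; exact hg⟩
      refine ⟨fun x y => ?_⟩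
      obtain ⟨k, rfl⟩ := hbase x
      obtain ⟨l, rfl⟩ := hbase y
      exact ⟨l * k⁻¹, by rw [mul_smul, inv_smul_smul]⟩
    -- the kernel is normal in `G`
    let R : Subgroup G := K.map N.subtype
    have hmemR : ∀ g : G, g ∈ R ↔ g ∈ N ∧ (g = 1 ∨ ∀ y : Ω, g • y ≠ y) := by
      intro g
      constructor
      · rintro ⟨k, hk, rfl⟩
        refine ⟨k.2, or_iff_not_imp_left.2 fun hk1 y hy => hk1 ?_⟩
        obtain ⟨x, rfl⟩ := IsPretransitive.exists_smul_eq (M := N) a y
        have h1 := (hKmem k).1 hk x (by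
          rw [mem_stabilizer_iff, mul_smul, mul_smul, inv_smul_eq_iff]
          exact hy)
        have h2 : k = 1 := by
          calc k = x * (x⁻¹ * k * x) * x⁻¹ := by group
            _ = 1 := by rw [h1]; group
        simp [h2]
      · rintro ⟨hgN, hg⟩
        refine ⟨⟨g, hgN⟩, (hKmem _).2 fun x hx => ?_, rfl⟩
        rcases hg with rfl | hg
        · rw [show (⟨1, hgN⟩ : N) = 1 from rfl]; group
        · exfalso
          have h1 := mem_stabilizer_iff.1 hx
          rw [mul_smul, mul_smul, inv_smul_eq_iff] at h1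
          exact hg _ h1
    haveI : R.Normal := ⟨fun r hr g => by
      rw [hmemR] at hr ⊢
      refine ⟨(inferInstance : N.Normal).conj_mem r hr.1 g, ?_⟩
      rcases hr.2 with h | h
      · exact Or.inl (by rw [h, mul_one, mul_inv_cancel])
      · refine Or.inr fun y hy => h (g⁻¹ • y) ?_
        rw [mul_smul, mul_smul, ← eq_inv_smul_iff] at hy
        exact hy⟩
    haveI : IsPretransitive R Ω := ⟨fun x y => by
      obtain ⟨⟨k, hk⟩, hkx⟩ := hKt.exists_smul_eq x y
      exact ⟨⟨k, ⟨k, hk, rfl⟩⟩, hkx⟩⟩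
    obtain ⟨c, hc⟩ := hZ.2.2.2.2 R inferInstance inferInstance
    refine hc ((Subgroup.eq_bot_iff_forall _).2 fun r hr => ?_)
    rcases ((hmemR r).1 r.2).2 with h | h
    · exact Subtype.ext h
    · exact absurd (mem_stabilizer_iff.1 hr) (h c)
  refine ⟨?_, hfix⟩
  obtain ⟨g, hgN, hg1, b, c, hbc, hgb, hgc⟩ := hfix
  -- conjugates of `g` generate the point kernels
  have key : ∀ p y z : Ω, y ≠ p → z ≠ p → ∃ u : G, u ∈ N ∧ u • p = p ∧ u • y = z := by
    intro p y z hy hz'
    obtain ⟨k, hkb, hkc⟩ := hz.two hbc hy.symm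
    have hx1 : k * g * k⁻¹ ≠ 1 := fun e => hg1 (conj_eq_one_iff.1 e)
    have hxN : k * g * k⁻¹ ∈ N := (inferInstance : N.Normal).conj_mem g hgN k
    have hxp : (k * g * k⁻¹) • p = p := by rw [← hkb, mul_smul, mul_smul, inv_smul_smul, hgb]
    have hxy : (k * g * k⁻¹) • y = y := by rw [← hkc, mul_smul, mul_smul, inv_smul_smul, hgc]
    set x := k * g * k⁻¹
    obtain ⟨M, hM⟩ := hz.exists_kernel hy.symm
    have hxs : x ∈ stabilizer G p := hxp
    let f : M → M := fun u => ⟨(u : G) * x * (u : G)⁻¹ * x⁻¹, by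
      rw [show (u : G) * x * (u : G)⁻¹ * x⁻¹ = u * (x * (u : G)⁻¹ * x⁻¹) by group]
      exact M.mul_mem u.2 (hM.conj x hxs _ (M.inv_mem u.2))⟩
    have hf : Function.Injective f := by
      intro u v e
      have e' : (u : G) * x * (u : G)⁻¹ = (v : G) * x * (v : G)⁻¹ :=
        mul_right_cancel (congrArg Subtype.val e)
      refine Subtype.ext (inv_mul_eq_one.1 ?_).symm
      by_contra hne
      refine hx1 (hM.eq_one_of_commute hz hy (ZData.mem_H2.2 ⟨hxp, hxy⟩)
        (M.mul_mem (M.inv_mem v.2) u.2) hne ?_)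
      calc x * ((v : G)⁻¹ * u) * x⁻¹ = (v : G)⁻¹ * ((v : G) * x * (v : G)⁻¹) * u * x⁻¹ := by group
        _ = (v : G)⁻¹ * ((u : G) * x * (u : G)⁻¹) * u * x⁻¹ := by rw [e']
        _ = (v : G)⁻¹ * u := by group
    obtain ⟨w, hw, hwy⟩ := hM.exists_smul hy hz'
    obtain ⟨u, hu⟩ := (Finite.injective_iff_surjective.1 hf) ⟨w, hw⟩
    have hu' : (u : G) * x * (u : G)⁻¹ * x⁻¹ = w := congrArg Subtype.val hu
    refine ⟨w, ?_, mem_stabilizer_iff.1 (hM.le hw), hwy⟩
    rw [← hu']
    exact N.mul_mem ((inferInstance : N.Normal).conj_mem x hxN u) (N.inv_mem hxN)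
  rw [is_two_pretransitive_iff]
  intro p y p' z hpy hpz
  obtain ⟨k, hk⟩ := IsPretransitive.exists_smul_eq (M := N) p p'
  have hky : k • y ≠ p' := by
    rw [← hk]; exact fun e => hpy (MulAction.injective k e).symm
  obtain ⟨u, huN, hu1, hu2⟩ := key p' _ z hky hpz.symm
  exact ⟨(⟨u, huN⟩ : N) * k, by rw [mul_smul, hk]; exact hu1, by rw [mul_smul]; exact hu2⟩

theorem normal_isZassenhaus [Finite Ω] (hZ : Cfsg.IsZassenhausGroup G Ω) (N : Subgroup G)
    [N.Normal] (hN : N ≠ ⊥) : Cfsg.IsZassenhausGroup N Ω := by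
  haveI := hZ.1
  haveI : Finite G := finite_group hZ
  obtain ⟨h2, g, hgN, hg1, a, b, hab, hga, hgb⟩ := normal_two_fix hZ N hN
  haveI : FaithfulSMul N Ω := ⟨fun {x y} h =>
    Subtype.ext (FaithfulSMul.eq_of_smul_eq_smul fun z => h z)⟩
  refine ⟨inferInstance, h2, fun x p q r h1 h2 h3 hp hq hr =>
      Subtype.ext (hZ.2.2.1 x p q r h1 h2 h3 hp hq hr),
    ⟨⟨g, hgN⟩, fun e => hg1 (congrArg Subtype.val e), a, b, hab, hga, hgb⟩, ?_⟩
  intro R hR hRt
  by_contra hne
  push Not at hne
  haveI := hR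
  haveI := hRt
  haveI hR'n : (R.map N.subtype).Normal := by
    refine ⟨fun r hr k => ?_⟩
    obtain ⟨r₀, hr₀, rfl⟩ := hr
    let c : MulAut N := MulAut.conjNormal k
    haveI : (R.map c.toMonoidHom).Normal := Subgroup.Normal.map hR _ c.surjective
    haveI : IsPretransitive (R.map c.toMonoidHom) Ω := ⟨fun x y => by
      obtain ⟨w, hw⟩ := hRt.exists_smul_eq (k⁻¹ • x) (k⁻¹ • y)
      refine ⟨⟨c (w : N), ⟨(w : N), w.2, rfl⟩⟩, ?_⟩
      show ((MulAut.conjNormal k (w : N) : N) : G) • x = y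
      rw [MulAut.conjNormal_apply, mul_smul, mul_smul]
      have hw' : ((w : N) : G) • k⁻¹ • x = k⁻¹ • y := hw
      rw [hw', smul_inv_smul]⟩
    have h1 : stabilizer (R.map c.toMonoidHom) a = ⊥ := by
      rw [Subgroup.eq_bot_iff_forall]
      rintro ⟨_, w, hw, rfl⟩ hwa
      have e : (k * (w : G) * k⁻¹) • a = a := by
        have := mem_stabilizer_iff.1 hwa
        rw [Subgroup.smul_def, Subgroup.smul_def] at this
        simpa [c, MulAut.conjNormal_apply] using this
      rw [mul_smul, mul_smul, ← eq_inv_smul_iff] at e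
      have := (Subgroup.eq_bot_iff_forall _).1 (hne (k⁻¹ • a)) ⟨w, hw⟩ e
      refine Subtype.ext ?_
      have hw1 : (w : N) = 1 := congrArg Subtype.val this
      show c w = 1
      rw [hw1, map_one]
    have heq := regular_normal_unique h2 h1 (hne a)
    exact ⟨c r₀, heq ▸ ⟨r₀, hr₀, rfl⟩, by simp [c, MulAut.conjNormal_apply]⟩
  haveI : IsPretransitive (R.map N.subtype) Ω := ⟨fun x y => by
    obtain ⟨w, hw⟩ := hRt.exists_smul_eq x y
    exact ⟨⟨((w : N) : G), ⟨(w : N), w.2, rfl⟩⟩, hw⟩⟩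
  obtain ⟨d, hd⟩ := hZ.2.2.2.2 (R.map N.subtype) hR'n inferInstance
  refine hd ((Subgroup.eq_bot_iff_forall _).2 ?_)
  rintro ⟨_, w, hw, rfl⟩ hwd
  have := (Subgroup.eq_bot_iff_forall _).1 (hne d) ⟨w, hw⟩ hwd
  exact Subtype.ext (congrArg (fun z : R => ((z : N) : G)) this)

/-- A Zassenhaus group of odd degree is simple. -/
theorem isSimple_of_odd [Finite Ω] (hZ : Cfsg.IsZassenhausGroup G Ω)
    (hodd : Odd (Nat.card Ω)) : IsSimpleGroup G := by
  haveI := hZ.1
  haveI : Finite G := finite_group hZ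
  have hz := zData_of_isZassenhausGroup hZ
  obtain ⟨g, hg, a, b, hab, hga, hgb⟩ := hZ.2.2.2.1
  haveI : Nontrivial G := ⟨⟨g, 1, hg⟩⟩
  refine ⟨fun N hN => ?_⟩
  by_cases hbot : N = ⊥
  · exact Or.inl hbot
  right
  haveI := hN
  obtain ⟨h2, -⟩ := normal_two_fix hZ N hbot
  obtain ⟨t, ht, hta, htb⟩ := hz.exists_involution_swap hab
  have htt : t * t = 1 := by rw [← sq, ← ht, pow_orderOf_eq_one]
  have ht1 : t ≠ 1 := fun e => by rw [e, orderOf_one] at ht; omega
  obtain ⟨c, hc⟩ : ∃ c, t • c = c := by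
    obtain ⟨-, hpar⟩ := hz.card_fixedBy_involution htt ht1
    rcases isEmpty_or_nonempty (fixedBy Ω t) with he | ⟨⟨c, hc⟩⟩
    · rw [Nat.card_of_isEmpty, Nat.odd_iff.1 hodd] at hpar; omega
    · exact ⟨c, hc⟩
  have hca : c ≠ a := fun e => hab (by rw [e] at hc; exact hc.symm.trans hta)
  have hcb : c ≠ b := fun e => hab (by rw [e] at hc; exact htb.symm.trans hc)
  set H : Subgroup G := ZData.H2 a b with hH
  have hinv := ZData.inverted_of_centralizer_trivial (H := H) htt
    (fun h hh => ZData.swap_conj_mem hta htb hh) (fun h hh e => by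
      have hfc : h • c = c := by
        have hu := e.symm
        have : t • h • c = h • c := by
          have h1 : t * h = h * t := by
            conv_rhs => rw [hu]
            group
          rw [← mul_smul, h1, mul_smul, hc]
        by_contra hne
        have h1 := ZData.mem_H2.1 hh
        obtain ⟨-, hpar⟩ := hz.card_fixedBy_involution htt ht1
        have hle := (hz.card_fixedBy_involution htt ht1).1
        have h2c : 2 ≤ Nat.card (fixedBy Ω t) := by
          haveI : Nontrivial (fixedBy Ω t) :=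
            ⟨⟨⟨h • c, this⟩, ⟨c, hc⟩, fun e => hne (congrArg Subtype.val e)⟩⟩
          exact Finite.one_lt_card
        rw [Nat.odd_iff.1 hodd] at hpar
        omega
      exact hz.three h hab hcb.symm hca.symm (ZData.mem_H2.1 hh).1 (ZData.mem_H2.1 hh).2 hfc)
  have hHodd : Odd (Nat.card H) := Nat.not_even_iff_odd.1 fun he =>
    Nat.not_even_iff_odd.2 hodd (hz.even_card_of_even hab he)
  -- an element of `N` swapping the two points inverts `H` as well
  obtain ⟨s, hsa, hsb⟩ := (is_two_pretransitive_iff).1 h2 hab hab.symm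
  have hk : t⁻¹ * (s : G) ∈ H := ZData.mem_H2.2
    ⟨by rw [mul_smul, inv_smul_eq_iff, hta]; exact hsa,
      by rw [mul_smul, inv_smul_eq_iff, htb]; exact hsb⟩
  have hcommH : ∀ x ∈ H, ∀ y ∈ H, x * y = y * x := fun x hx y hy => by
    have h1 := hinv (x * y) (H.mul_mem hx hy)
    rw [show t * (x * y) * t⁻¹ = (t * x * t⁻¹) * (t * y * t⁻¹) by group, hinv x hx, hinv y hy,
      _root_.mul_inv_rev] at h1
    calc x * y = (y⁻¹ * x⁻¹)⁻¹ := by group
      _ = (x⁻¹ * y⁻¹)⁻¹ := by rw [← h1]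
      _ = y * x := by group
  have hHN : H ≤ N := by
    intro h hh
    obtain ⟨r, hr⟩ := hHodd
    have h2mem : h ^ 2 ∈ N := by
      have e : (s : G) * h⁻¹ * (s : G)⁻¹ = h := by
        rw [show (s : G) = t * (t⁻¹ * s) by group]
        rw [show t * (t⁻¹ * (s : G)) * h⁻¹ * (t * (t⁻¹ * (s : G)))⁻¹ =
          t * ((t⁻¹ * (s : G)) * h⁻¹ * (t⁻¹ * (s : G))⁻¹) * t⁻¹ by group,
          hcommH _ hk _ (H.inv_mem hh), mul_inv_cancel_right, hinv _ (H.inv_mem hh), inv_inv]
      rw [show h ^ 2 = h * h by rw [sq]]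
      conv => arg 2; arg 2; rw [← e]
      rw [show h * ((s : G) * h⁻¹ * (s : G)⁻¹) = (h * s * h⁻¹) * (s : G)⁻¹ by group]
      exact N.mul_mem (hN.conj_mem s s.2 h) (N.inv_mem s.2)
    have hpow : h ^ Nat.card H = 1 := by
      have := pow_card_eq_one' (x := (⟨h, hh⟩ : H))
      simpa only [Subgroup.coe_pow, Subgroup.coe_one] using congrArg Subtype.val this
    have : h = (h ^ 2) ^ (r + 1) := by
      rw [← pow_mul, show 2 * (r + 1) = Nat.card H + 1 by omega, pow_succ, hpow, one_mul]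
    rw [this]
    exact N.pow_mem h2mem _
  rw [Subgroup.eq_top_iff']
  intro x
  obtain ⟨u, hua, hub⟩ := (is_two_pretransitive_iff).1 h2 hab
    (show x • a ≠ x • b from fun e => hab (MulAction.injective x e))
  have : (u : G)⁻¹ * x ∈ H := ZData.mem_H2.2
    ⟨by rw [mul_smul, inv_smul_eq_iff]; exact hua.symm,
      by rw [mul_smul, inv_smul_eq_iff]; exact hub.symm⟩
  simpa using N.mul_mem u.2 (hHN this)

end Cfsg.Agent.Zassenhaus
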