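import Cfsg.Agent.Zassenhaus.AbelianKernel
import Cfsg.Agent.Zassenhaus.Even
import Cfsg.Agent.PermB.ZassElem
import Cfsg.Agent.PermB.ZassFrobenius
import Cfsg.Agent.S0042

/-!
# The degree of a simple Zassenhaus group is one more than a prime power
-/

set_option autoImplicit false
set_option linter.style.haveILetI false
set_option linter.style.openClassical false

noncomputable section

open scoped Classical Pointwise commutatorElement
open MulAction
open Cfsg.Agent.PermB
open Cfsg.Agent.CharExt (KTriv)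

namespace Cfsg.Agent.Zassenhaus

universe u v

variable {G : Type u} [Group G] {Ω : Type v} [MulAction G Ω]

theorem one_lt_card_H2 [Finite G] (hZ : Cfsg.IsZassenhausGroup G Ω) {a b : Ω} (hab : a ≠ b) :
    1 < Nat.card (ZData.H2 (G := G) a b) := by
  obtain ⟨g, hg, p, q, hpq, hp, hq⟩ := hZ.2.2.2.1
  rw [← (zData_of_isZassenhausGroup hZ).card_H2_eq hab hpq, Finite.one_lt_card_iff_nontrivial]
  exact ⟨⟨⟨g, ZData.mem_H2.2 ⟨hp, hq⟩⟩, 1, fun e => hg (congrArg Subtype.val e)⟩⟩

variable [Finite G] [Finite Ω]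

/-- The regular normal subgroup of a point stabiliser is nilpotent. -/
theorem kernel_isNilpotent (hZ : Cfsg.IsZassenhausGroup G Ω) {N : Subgroup G} {a b : Ω}
    (hab : a ≠ b) (hN : IsKernel N a) :
    Group.IsNilpotent (N.subgroupOf (stabilizer G a)) := by
  have hz := zData_of_isZassenhausGroup hZ
  set H : Subgroup (stabilizer G a) := (stabilizer G b).subgroupOf (stabilizer G a) with hHdef
  have hmem : ∀ x : stabilizer G a, x ∈ H ↔ (x : G) • b = b := fun x => Iff.rfl
  have hconj : ∀ g x : stabilizer G a, x ∈ MulAut.conj g • H →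
      (x : G) • ((g : G) • b) = (g : G) • b := by
    intro g x hx
    rw [Subgroup.mem_pointwise_smul_iff_inv_smul_mem, MulAut.smul_def, MulAut.inv_def,
      MulAut.conj_symm_apply, hmem] at hx
    push_cast at hx
    rwa [mul_smul, mul_smul, inv_smul_eq_iff] at hx
  have hH : Cfsg.IsFrobeniusComplement H := by
    refine ⟨?_, ?_, ?_⟩
    · haveI := Finite.one_lt_card_iff_nontrivial.1 (one_lt_card_H2 hZ hab)
      obtain ⟨⟨h, hh⟩, hne⟩ := exists_ne (1 : ZData.H2 (G := G) a b)
      rw [Ne, Subgroup.eq_bot_iff_forall]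
      exact fun hbot => hne (Subtype.ext ((congrArg Subtype.val
        (hbot ⟨h, (ZData.mem_H2.1 hh).1⟩ ((hmem _).2 (ZData.mem_H2.1 hh).2)) :)))
    · intro htop
      obtain ⟨c, hca, hcb⟩ := exists_ne_ne (three_le_card_of_isZassenhausGroup hZ) a b
      obtain ⟨u, hu, huc⟩ := hN.exists_smul hab.symm hca
      exact hcb (huc ▸ (hmem ⟨u, hN.le hu⟩).1 (htop ▸ Subgroup.mem_top _))
    · intro g hg
      rw [Subgroup.eq_bot_iff_forall]
      rintro x ⟨hx1, hx2⟩
      have hne : (g : G) • b ≠ b := fun e => hg ((hmem g).2 e)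
      have hne' : (g : G) • b ≠ a := fun e =>
        hab (MulAction.injective (g : G) ((g.2 : (g : G) • a = a).trans e.symm))
      exact Subtype.ext (hz.three (x : G) hab hne.symm hne'.symm x.2 hx1 (hconj g x hx2))
  obtain ⟨K, hK, -, hnil⟩ := Cfsg.Agent.S0042.result H hH
  have hle : N.subgroupOf (stabilizer G a) ≤ K := by
    intro u hu
    rw [← SetLike.mem_coe, hK]
    by_cases h1 : u = 1
    · exact Or.inl h1
    · refine Or.inr fun g hg => h1 (Subtype.ext ?_)
      exact hN.eq_one hu (fun e => hab (MulAction.injective (g : G)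
        ((g.2 : (g : G) • a = a).trans e.symm))) (hconj g u hg)
  exact Group.nilpotent_of_mulEquiv (Subgroup.subgroupOfEquivOfLe hle)

/-- The kernel with its point stabiliser forms a trivial intersection setup. -/
theorem tiSetup (hZ : Cfsg.IsZassenhausGroup G Ω) {N : Subgroup G} {a b : Ω} (hab : a ≠ b)
    (hN : IsKernel N a) :
    TISetup (stabilizer G a) (N.subgroupOf (stabilizer G a)) := by
  have hz := zData_of_isZassenhausGroup hZ
  refine ⟨fun k hk hk1 x hx => ?_, fun k hk hk1 y hy => ?_, ?_⟩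
  · rw [mem_stabilizer_iff, mul_smul, mul_smul, inv_smul_eq_iff] at hx
    by_contra hne
    exact hk1 (Subtype.ext (hN.eq_one hk hne hx))
  · rw [Subgroup.mem_subgroupOf, hz.mem_kernel_iff hN hab]
    refine ⟨y.2, ?_⟩
    by_cases h1 : (y : G) = 1
    · exact Or.inl h1
    refine Or.inr fun c hc e => h1 ?_
    have hcomm : (k : G) * y = y * k := congrArg Subtype.val (Subgroup.mem_centralizer_iff.1 hy k rfl)
    refine hz.three (y : G) hc.symm (fun e' : c = (k : G) • c => hk1 (Subtype.ext (hN.eq_one hk hc e'.symm)))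
      (hN.smul_ne hk hc).symm y.2 e ?_
    rw [← mul_smul, ← hcomm, mul_smul, e]
  · haveI := hz.isPretransitive
    rw [MulAction.index_stabilizer_of_transitive, Nat.card_congr
      (Subgroup.subgroupOfEquivOfLe hN.le).toEquiv, hN.card_add_one hab.symm]

theorem index_kernel (hZ : Cfsg.IsZassenhausGroup G Ω) {N : Subgroup G} {a b : Ω} (hab : a ≠ b)
    (hN : IsKernel N a) :
    (N.subgroupOf (stabilizer G a)).index = Nat.card (ZData.H2 (G := G) a b) := by
  have hz := zData_of_isZassenhausGroup hZ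
  have h := Subgroup.card_mul_index (N.subgroupOf (stabilizer G a))
  rw [Nat.card_congr (Subgroup.subgroupOfEquivOfLe hN.le).toEquiv, hz.card_stabilizer hab,
    ← hN.card_add_one hab.symm, Nat.add_sub_cancel] at h
  exact Nat.eq_of_mul_eq_mul_left Nat.card_pos h

/-- The number of points of a simple Zassenhaus group is one more than a prime power. -/
theorem isPrimePow_card_sub_one [IsSimpleGroup G] (hZ : Cfsg.IsZassenhausGroup G Ω) :
    IsPrimePow (Nat.card Ω - 1) := by
  have hz := zData_of_isZassenhausGroup hZ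
  have h3 := three_le_card_of_isZassenhausGroup hZ
  obtain ⟨g₀, -, a, b, hab, -, -⟩ := hZ.2.2.2.1
  obtain ⟨N, hN⟩ := hz.exists_kernel hab
  have hcard : Nat.card N + 1 = Nat.card Ω := hN.card_add_one hab.symm
  set d := Nat.card (ZData.H2 (G := G) a b) with hd
  rcases Nat.even_or_odd d with heven | hodd
  · obtain ⟨-, p, f, hp, -, hpf⟩ := hN.elementary hz hab.symm h3
      (by have := two_mul_card_H2 hZ hab heven; omega)
    have hf : f ≠ 0 := by
      rintro rfl
      simp at hpf
      omega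
    rw [hpf, Nat.add_sub_cancel]
    exact isPrimePow_pow_iff hf |>.2 hp.prime.isPrimePow
  by_contra hpp
  haveI : Fintype G := Fintype.ofFinite G
  set M := stabilizer G a with hM
  set L := N.subgroupOf M with hL
  haveI : L.Normal := ⟨fun u hu g => hN.conj g g.2 u hu⟩
  have hS : TISetup M L := tiSetup hZ hab hN
  have hidx : L.index = d := index_kernel hZ hab hN
  have hd1 := one_lt_card_H2 hZ hab
  have hodd' : Odd L.index := hidx ▸ hodd
  have hd3 : 3 ≤ L.index := by
    obtain ⟨r, hr⟩ := hodd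
    omega
  have hcardL : Nat.card L = Nat.card N := Nat.card_congr (Subgroup.subgroupOfEquivOfLe hN.le).toEquiv
  have hppL : ¬ IsPrimePow (Nat.card L) := by
    rwa [hcardL, show Nat.card N = Nat.card Ω - 1 by omega]
  have hne : Nontrivial L := Finite.one_lt_card_iff_nontrivial.1 (by omega)
  have hnil : Group.IsNilpotent L := kernel_isNilpotent hZ hab hN
  have horb := orbits hS
  have hbig : L.index + 4 ≤ Fintype.card (Fam M L) := by
    have h := index_commutator_ge hnil hne hppL horb
    rw [← card_smallest hS, ← Fintype.card_subtype] at h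
    change _ ≤ Fintype.card (Fam M L) * L.index + 1 at h
    by_contra hlt
    have h' := Nat.mul_le_mul_right L.index
      (Nat.le_of_lt_succ (show Fintype.card (Fam M L) < L.index + 3 + 1 by omega))
    nlinarith
  obtain ⟨X, η₀, h1, h0⟩ := exists_base hS hbig
  have hsum := fun θ : Cfsg.IrrCharacter L => sum_small_gt (θ := θ) hodd' hd3 hnil hne hppL horb
  have hcomm : commutator L = ⊥ := kernel_comm hS h1 (mult_eq_zero hS hsum h1 h0)
  have habL : ∀ x y : L, x * y = y * x := fun x y => by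
    have : ⁅x, y⁆ ∈ commutator L := Subgroup.commutator_mem_commutator (Subgroup.mem_top x) (Subgroup.mem_top y)
    rw [hcomm, Subgroup.mem_bot] at this
    exact commutatorElement_eq_one_iff_mul_comm.1 this
  have hfam : ∀ η : Cfsg.IrrCharacter M, ¬ KTriv L η → deg η = L.index := by
    intro η hη
    obtain ⟨θ, hθ, rfl⟩ := exists_exIrr hS hη
    rw [deg_exIrr, show deg θ = 1 from Nat.cast_injective (R := ℂ) (by
      rw [← deg_spec, Char.irr_degree_one_of_comm habL θ.2, Nat.cast_one]), mul_one]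
  -- the quotient by the kernel is cyclic
  obtain ⟨hcyc, -⟩ := isCyclic_H2 hZ hab
  have hquot : ∀ x y : M ⧸ L, x * y = y * x := by
    have hrep : ∀ x : M ⧸ L, ∃ h : M, (h : G) ∈ ZData.H2 a b ∧ (h : M ⧸ L) = x := by
      intro x
      obtain ⟨x, rfl⟩ := QuotientGroup.mk_surjective x
      obtain ⟨u, hu, h, hh, e⟩ := hN.exists_mul hab.symm (g := (x : G)) x.2
      refine ⟨⟨h, (ZData.mem_H2.1 hh).1⟩, hh, ?_⟩
      rw [show x = (⟨u, hN.le hu⟩ : M) * ⟨h, (ZData.mem_H2.1 hh).1⟩ from Subtype.ext e,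
        QuotientGroup.mk_mul, (QuotientGroup.eq_one_iff _).2 (show (⟨u, hN.le hu⟩ : M) ∈ L from hu),
        one_mul]
    intro x y
    obtain ⟨h, hh, rfl⟩ := hrep x
    obtain ⟨k, hk, rfl⟩ := hrep y
    obtain ⟨c, hc⟩ := hcyc.exists_generator
    obtain ⟨i, hi⟩ := Subgroup.mem_zpowers_iff.1 (hc ⟨h, hh⟩)
    obtain ⟨j, hj⟩ := Subgroup.mem_zpowers_iff.1 (hc ⟨k, hk⟩)
    have e : (⟨h, hh⟩ : ZData.H2 (G := G) a b) * ⟨k, hk⟩ = ⟨k, hk⟩ * ⟨h, hh⟩ := by
      rw [← hi, ← hj, ← zpow_add, ← zpow_add, add_comm]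
    rw [← QuotientGroup.mk_mul, ← QuotientGroup.mk_mul,
      show h * k = k * h from Subtype.ext ((congrArg Subtype.val e :))]
  have hlin : ∀ β : Cfsg.IrrCharacter M, KTriv L β → deg β = 1 := by
    intro β hβ
    obtain ⟨ψ, hψ, hg⟩ := Char.irr_exists_descend β.2 L hβ
    apply Nat.cast_injective (R := ℂ)
    rw [← deg_spec, hg, QuotientGroup.mk_one, Char.irr_degree_one_of_comm hquot hψ, Nat.cast_one]
  have hreal : ∀ g : M, g ∉ L → IsConj (g : G) (g : G)⁻¹ := by
    intro g hg
    obtain ⟨c, hc, e⟩ : ∃ c, c ≠ a ∧ (g : G) • c = c := by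
      by_contra hcon
      push Not at hcon
      exact hg ((hz.mem_kernel_iff hN hab).2 ⟨g.2, Or.inr hcon⟩)
    obtain ⟨-, v, -, -, -, hv⟩ := isCyclic_H2 hZ hc.symm
    exact isConj_iff.2 ⟨v, hv g (ZData.mem_H2.2 ⟨g.2, e⟩)⟩
  exact abelian_false hS hfam hbig hodd' hd3 hlin hreal

end Cfsg.Agent.Zassenhaus
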