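import Cfsg.Agent.Zassenhaus.TwoPointTI
import Cfsg.Agent.OddChar.CoherenceBasic
import Mathlib.GroupTheory.Subgroup.Simple

/-!
# An elementary route to the exceptional characters of a simple Zassenhaus group
-/

set_option autoImplicit false
set_option linter.style.haveILetI false
set_option linter.style.openClassical false
set_option linter.unusedSectionVars false

noncomputable section

open scoped ComplexConjugate Classical
open Cfsg.Agent.CharExt (KTriv)

namespace Cfsg.Agent.Zassenhaus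

universe u

variable {G : Type u} [Group G] [Fintype G] {M : Subgroup G} [Fintype M] {L : Subgroup M} [L.Normal]

/-- The exceptional characters of smallest degree. -/
abbrev Fam (M : Subgroup G) (L : Subgroup M) : Type u :=
  {η : Cfsg.IrrCharacter M // ¬ KTriv L η ∧ deg η = L.index}

/-- Signs and exceptional characters of the group for the family of smallest degree. -/
theorem exists_family (hS : TISetup M L)
    (htwo : ∃ η η' : Fam M L, η ≠ η') :
    ∃ (ε : ℂ) (f : Fam M L → Cfsg.IrrCharacter G),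
      (ε = 1 ∨ ε = -1) ∧ Function.Injective f ∧ ∀ χ ξ : Fam M L,
        Cfsg.indFun M ((χ.1 : M → ℂ) - (ξ.1 : M → ℂ)) = ε • ((f χ : G → ℂ) - (f ξ : G → ℂ)) := by
  obtain ⟨χ₀, χ₁', hne₀⟩ := htwo
  let d : Fam M L → M → ℂ := fun χ => (χ₀.1 : M → ℂ) - (χ.1 : M → ℂ)
  have hd1 : ∀ χ, d χ 1 = 0 := fun χ => by
    simp [d, deg_spec, χ.2.2, χ₀.2.2]
  have hdcl : ∀ χ, Cfsg.IsClassFunction M (d χ) := fun χ g h => by
    simp [d, Char.irr_isClassFunction χ.1.2 g h, Char.irr_isClassFunction χ₀.1.2 g h]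
  let β : Fam M L → G → ℂ := fun χ => Cfsg.indFun M (d χ)
  have hinner : ∀ χ ξ, Cfsg.classInner (β χ) (β ξ) = Cfsg.classInner (d χ) (d ξ) := by
    intro χ ξ
    rw [ind_inner_supp hS (fun x hx => by
      simp [d, eq_zero_off hS χ.2.1 x hx, eq_zero_off hS χ₀.2.1 x hx]) (hdcl ξ), hd1 χ, zero_mul,
      zero_div, add_zero]
  have hdinner : ∀ χ ξ, χ ≠ χ₀ → ξ ≠ χ₀ →
      Cfsg.classInner (d χ) (d ξ) = if χ = ξ then 2 else 1 := by
    intro χ ξ hχ hξ
    have a1 : χ₀.1 ≠ ξ.1 := fun h => hξ (Subtype.ext h).symm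
    have a2 : χ.1 ≠ χ₀.1 := fun h => hχ (Subtype.ext h)
    simp only [d, Char.classInner_sub_left, Char.classInner_sub_right,
      Char.classInner_irrCharacter]
    simp only [if_true, if_neg a1, if_neg a2]
    by_cases h : χ = ξ
    · subst h; simp; norm_num
    · have h' : χ.1 ≠ ξ.1 := fun e => h (Subtype.ext e)
      simp [h, h']
  have hpair : ∀ χ, χ ≠ χ₀ → ∃ p q : Cfsg.IrrCharacter G, p ≠ q ∧
      β χ = (p : G → ℂ) - (q : G → ℂ) := by
    intro χ hχ
    have hgen : Cfsg.IsGeneralizedCharacter G (β χ) :=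
      CharInd.genChar_indFun M (Char.isGeneralizedCharacter_sub
        (Char.isGeneralizedCharacter_of_irr χ₀.1.2) (Char.isGeneralizedCharacter_of_irr χ.1.2))
    obtain ⟨a, b, ha, hb, hab0, h1', hsum⟩ := OddChar.exists_signed_pair hgen
      (by rw [hinner, hdinner χ χ hχ hχ, if_pos rfl]) (CharInd.indFun_one_eq_zero M (hd1 χ))
    rcases ha with ha | ha <;> rcases hb with hb | hb
    · exfalso
      obtain ⟨i, hi, hi'⟩ := Char.irr_one_pos ha
      obtain ⟨j, hj, hj'⟩ := Char.irr_one_pos hb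
      have : ((i + j : ℕ) : ℂ) = 0 := by push_cast; rw [← hi', ← hj', h1']; ring
      have : i + j = 0 := by exact_mod_cast this
      omega
    · refine ⟨⟨a, ha⟩, ⟨-b, hb⟩, fun h => ?_, by rw [hsum]; simp⟩
      have he : a = -b := congrArg Subtype.val h
      have := Char.classInner_irr_self ha
      conv_lhs at this => arg 2; rw [he]
      rw [Char.classInner_neg_right, hab0, neg_zero] at this
      exact zero_ne_one this
    · refine ⟨⟨b, hb⟩, ⟨-a, ha⟩, fun h => ?_, by rw [hsum]; simp [add_comm]⟩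
      have he : b = -a := congrArg Subtype.val h
      have := Char.classInner_irr_self hb
      conv_lhs at this => arg 1; rw [he]
      rw [Char.classInner_neg_left, hab0, neg_zero] at this
      exact zero_ne_one this
    · exfalso
      obtain ⟨i, hi, hi'⟩ := Char.irr_one_pos ha
      obtain ⟨j, hj, hj'⟩ := Char.irr_one_pos hb
      rw [Pi.neg_apply] at hi' hj'
      have : ((i + j : ℕ) : ℂ) = 0 := by push_cast; rw [← hi', ← hj', h1']; ring
      have : i + j = 0 := by exact_mod_cast this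
      omega
  choose p q hpq hβ using hpair
  have hshare : ∀ χ ξ (hχ : χ ≠ χ₀) (hξ : ξ ≠ χ₀), χ ≠ ξ →
      (p χ hχ = p ξ hξ ∧ q χ hχ ≠ q ξ hξ) ∨ (p χ hχ ≠ p ξ hξ ∧ q χ hχ = q ξ hξ) := by
    intro χ ξ hχ hξ hne
    have h := hinner χ ξ
    rw [hdinner χ ξ hχ hξ, if_neg hne, hβ χ hχ, hβ ξ hξ, Char.classInner_sub_left,
      Char.classInner_sub_right, Char.classInner_sub_right, Char.classInner_irrCharacter,
      Char.classInner_irrCharacter, Char.classInner_irrCharacter, Char.classInner_irrCharacter] at h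
    have n1 := hpq χ hχ
    have n2 := hpq ξ hξ
    by_cases a : p χ hχ = p ξ hξ <;> by_cases b : q χ hχ = q ξ hξ
    · exfalso
      have c1 : p χ hχ ≠ q ξ hξ := fun e => n2 (a ▸ e)
      have c2 : q χ hχ ≠ p ξ hξ := fun e => n1 (a.trans e.symm)
      rw [if_pos a, if_pos b, if_neg c1, if_neg c2] at h
      norm_num at h
    · exact Or.inl ⟨a, b⟩
    · exact Or.inr ⟨a, b⟩
    · exfalso
      rw [if_neg a, if_neg b] at h
      split_ifs at h <;> norm_num at h
  obtain ⟨χ₁, hχ₁⟩ : ∃ χ₁, χ₁ ≠ χ₀ := ⟨χ₁', hne₀.symm⟩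
  have hlin : ∀ (ε : ℂ) (f : Fam M L → Cfsg.IrrCharacter G),
      (∀ χ, χ ≠ χ₀ → β χ = ε • ((f χ₀ : G → ℂ) - (f χ : G → ℂ))) → ∀ χ ξ,
        Cfsg.indFun M ((χ.1 : M → ℂ) - (ξ.1 : M → ℂ)) = ε • ((f χ : G → ℂ) - (f ξ : G → ℂ)) := by
    intro ε f hf χ ξ
    have hb : ∀ η, β η = ε • ((f χ₀ : G → ℂ) - (f η : G → ℂ)) := by
      intro η
      by_cases h : η = χ₀
      · subst h
        simp only [β, d, sub_self, smul_zero]
        exact CharInd.indFun_zero M
      · exact hf η h
    have e : ((χ.1 : M → ℂ) - (ξ.1 : M → ℂ)) = d ξ - d χ := by simp [d]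
    rw [e, CharInd.indFun_sub]
    show β ξ - β χ = _
    rw [hb, hb, ← smul_sub, sub_sub_sub_cancel_left]
  by_cases hcase : ∀ χ (hχ : χ ≠ χ₀), p χ hχ = p χ₁ hχ₁
  · refine ⟨1, fun χ => if hχ : χ = χ₀ then p χ₁ hχ₁ else q χ hχ, Or.inl rfl, ?_, ?_⟩
    · intro χ ξ h
      by_cases hχ : χ = χ₀ <;> by_cases hξ : ξ = χ₀ <;> simp only [hχ, hξ, dite_true, dite_false] at h ⊢
      · exact absurd (((hcase ξ hξ).trans h)) (hpq ξ hξ)
      · exact absurd (((hcase χ hχ).trans h.symm)) (hpq χ hχ)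
      · by_contra hne
        rcases hshare χ ξ hχ hξ hne with ⟨-, b⟩ | ⟨a, -⟩
        · exact b h
        · exact a ((hcase χ hχ).trans (hcase ξ hξ).symm)
    · refine hlin _ _ fun χ hχ => ?_
      simp only [hχ, dite_true, dite_false, one_smul]
      rw [hβ χ hχ, hcase χ hχ]
  · push Not at hcase
    obtain ⟨χ₂, hχ₂, hne2⟩ := hcase
    have h21 : χ₂ ≠ χ₁ := fun h => hne2 (by subst h; rfl)
    have hq2 : q χ₂ hχ₂ = q χ₁ hχ₁ :=
      ((hshare χ₂ χ₁ hχ₂ hχ₁ h21).resolve_left (fun h => hne2 h.1)).2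
    have hqall : ∀ χ (hχ : χ ≠ χ₀), q χ hχ = q χ₁ hχ₁ := by
      intro χ hχ
      by_cases e1 : χ = χ₁
      · subst e1; rfl
      by_cases e2 : χ = χ₂
      · subst e2; exact hq2
      rcases hshare χ χ₁ hχ hχ₁ e1 with ⟨a, b⟩ | ⟨-, b⟩
      · exfalso
        rcases hshare χ χ₂ hχ hχ₂ e2 with ⟨a', -⟩ | ⟨-, b'⟩
        · exact hne2 (a'.symm.trans a)
        · exact b (b'.trans hq2)
      · exact b
    refine ⟨-1, fun χ => if hχ : χ = χ₀ then q χ₁ hχ₁ else p χ hχ, Or.inr rfl, ?_, ?_⟩
    · intro χ ξ h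
      by_cases hχ : χ = χ₀ <;> by_cases hξ : ξ = χ₀ <;> simp only [hχ, hξ, dite_true, dite_false] at h ⊢
      · exact absurd (h.symm.trans (hqall ξ hξ).symm) (hpq ξ hξ)
      · exact absurd (h.trans (hqall χ hχ).symm) (hpq χ hχ)
      · by_contra hne
        rcases hshare χ ξ hχ hξ hne with ⟨-, b⟩ | ⟨a, -⟩
        · exact b ((hqall χ hχ).trans (hqall ξ hξ).symm)
        · exact a h
    · refine hlin _ _ fun χ hχ => ?_
      simp only [hχ, dite_true, dite_false, neg_smul, one_smul, neg_sub]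
      rw [hβ χ hχ, hqall χ hχ]

/-- The multiplicities of an induced exceptional character. -/
theorem ind_inner_exc (hS : TISetup M L) {η : Cfsg.IrrCharacter M} (hη : ¬ KTriv L η)
    (η' : Cfsg.IrrCharacter M) :
    ((∑ ψ : Cfsg.IrrCharacter G, mult ψ η * mult ψ η' : ℕ) : ℂ) =
      (if η = η' then 1 else 0) + (deg η : ℂ) * deg η' / L.index := by
  rw [← ind_inner_ind, ind_inner_supp hS (eq_zero_off hS hη) (Char.irr_isClassFunction η'.2),
    Char.classInner_irrCharacter, deg_spec, deg_spec, map_natCast]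

theorem column_family (hS : TISetup M L) (η : Fam M L) :
    ∑ ψ : Cfsg.IrrCharacter G, mult ψ η.1 * mult ψ η.1 = L.index + 1 := by
  have h := ind_inner_exc hS η.2.1 η.1
  rw [if_pos rfl, η.2.2, mul_div_assoc, div_self (Nat.cast_ne_zero.2 Subgroup.index_ne_zero_of_finite),
    mul_one] at h
  have h' : (∑ ψ : Cfsg.IrrCharacter G, mult ψ η.1 * mult ψ η.1) = 1 + L.index := by
    exact_mod_cast h
  omega

theorem mult_sub {ε : ℂ} (hε : ε = 1 ∨ ε = -1) {f : Fam M L → Cfsg.IrrCharacter G}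
    (hdiff : ∀ χ ξ : Fam M L,
      Cfsg.indFun M ((χ.1 : M → ℂ) - (ξ.1 : M → ℂ)) = ε • ((f χ : G → ℂ) - (f ξ : G → ℂ)))
    (ψ : Cfsg.IrrCharacter G) (χ χ' : Fam M L) :
    (mult ψ χ.1 : ℂ) - mult ψ χ'.1 =
      ε * ((if ψ = f χ then 1 else 0) - if ψ = f χ' then 1 else 0) := by
  have h := congrArg (fun F => Cfsg.classInner (ψ : G → ℂ) F) (hdiff χ χ')
  simp only [CharInd.indFun_sub, Char.classInner_sub_right, Char.classInner_smul_right,
    Char.classInner_irrCharacter, inner_ind] at h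
  rw [h]
  rcases hε with rfl | rfl <;> simp

/-- The number of family members with a nonzero multiplicity in some column is at most `d + 1`. -/
theorem exists_zero_in_column (hS : TISetup M L) (hbig : L.index + 4 ≤ Fintype.card (Fam M L))
    {f : Fam M L → Cfsg.IrrCharacter G} (hf : Function.Injective f) (χ : Fam M L) :
    ∃ ξ, ξ ≠ χ ∧ mult (f ξ) χ.1 = 0 := by
  by_contra hne
  push Not at hne
  have h1 : (Finset.univ.erase χ).card ≤
      ∑ ψ : Cfsg.IrrCharacter G, mult ψ χ.1 * mult ψ χ.1 := by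
    calc (Finset.univ.erase χ).card = ∑ ξ ∈ Finset.univ.erase χ, 1 := Finset.card_eq_sum_ones _
      _ ≤ ∑ ξ ∈ Finset.univ.erase χ, mult (f ξ) χ.1 * mult (f ξ) χ.1 :=
          Finset.sum_le_sum fun ξ hξ => by
            have := Nat.pos_of_ne_zero (hne ξ (Finset.ne_of_mem_erase hξ))
            nlinarith
      _ = ∑ ψ ∈ (Finset.univ.erase χ).image f, mult ψ χ.1 * mult ψ χ.1 :=
          (Finset.sum_image (f := fun ψ => mult ψ χ.1 * mult ψ χ.1) fun a _ b _ e => hf e).symm
      _ ≤ _ := Finset.sum_le_sum_of_subset (Finset.subset_univ _)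
  rw [column_family hS χ, Finset.card_erase_of_mem (Finset.mem_univ _), Finset.card_univ] at h1
  omega

theorem eps_eq_one (hS : TISetup M L) (hbig : L.index + 4 ≤ Fintype.card (Fam M L))
    {ε : ℂ} (hε : ε = 1 ∨ ε = -1) {f : Fam M L → Cfsg.IrrCharacter G} (hf : Function.Injective f)
    (hdiff : ∀ χ ξ : Fam M L,
      Cfsg.indFun M ((χ.1 : M → ℂ) - (ξ.1 : M → ℂ)) = ε • ((f χ : G → ℂ) - (f ξ : G → ℂ))) :
    ε = 1 := by
  refine hε.resolve_right fun h => ?_
  obtain ⟨χ⟩ : Nonempty (Fam M L) := Fintype.card_pos_iff.1 (by omega)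
  obtain ⟨ξ, hξ, h0⟩ := exists_zero_in_column hS hbig hf χ
  have e := mult_sub hε hdiff (f ξ) χ ξ
  rw [h0, if_neg (fun e => hξ (hf e)), if_pos rfl, h] at e
  have e' : ((mult (f ξ) ξ.1 + 1 : ℕ) : ℂ) = 0 := by
    push_cast at e ⊢
    linear_combination -e
  exact absurd (Nat.cast_eq_zero.1 e') (Nat.succ_ne_zero _)

/-- One irreducible character of the group restricting to the family as a single member. -/
theorem exists_base (hS : TISetup M L) (hbig : L.index + 4 ≤ Fintype.card (Fam M L)) :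
    ∃ (X : Cfsg.IrrCharacter G) (η₀ : Fam M L), mult X η₀.1 = 1 ∧
      ∀ η : Fam M L, η ≠ η₀ → mult X η.1 = 0 := by
  obtain ⟨χ, χ', hne⟩ := Fintype.one_lt_card_iff.1 (show 1 < Fintype.card (Fam M L) by omega)
  obtain ⟨ε, f, hε, hf, hdiff⟩ := exists_family hS ⟨χ, χ', hne⟩
  obtain rfl := eps_eq_one hS hbig hε hf hdiff
  obtain ⟨ξ, hξ, h0⟩ := exists_zero_in_column hS hbig hf χ
  refine ⟨f ξ, ξ, ?_, fun η hη => ?_⟩
  · have e := mult_sub hε hdiff (f ξ) ξ χ
    rw [h0, if_pos rfl, if_neg (fun e => hξ (hf e))] at e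
    norm_num at e
    exact_mod_cast e
  · have e := mult_sub hε hdiff (f ξ) η χ
    rw [h0, if_neg (fun e => hη (hf e).symm), if_neg (fun e => hξ (hf e))] at e
    simpa using e

/-- The combination `d η - D η₀`, of degree zero. -/
def diffFun (η₀ : Fam M L) (η : Cfsg.IrrCharacter M) : M → ℂ :=
  (L.index : ℂ) • (η : M → ℂ) - (deg η : ℂ) • (η₀.1 : M → ℂ)

theorem inner_diff (η₀ : Fam M L) {η η' : Cfsg.IrrCharacter M} (hη : η ≠ η₀.1) (hη' : η' ≠ η₀.1) :
    Cfsg.classInner (diffFun η₀ η) (diffFun η₀ η') =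
      (if η = η' then (L.index : ℂ) ^ 2 else 0) + (deg η : ℂ) * deg η' := by
  simp only [diffFun, Char.classInner_sub_left, Char.classInner_sub_right, Char.classInner_smul_left,
    Char.classInner_smul_right, Char.classInner_irrCharacter, map_natCast, if_neg hη,
    if_neg (Ne.symm hη'), if_true]
  split_ifs <;> ring

theorem classInner_self_re_nonneg (f : G → ℂ) : 0 ≤ (Cfsg.classInner f f).re := by
  have h : Cfsg.classInner f f = (((Nat.card G : ℝ)⁻¹ * ∑ g : G, Complex.normSq (f g) : ℝ) : ℂ) := by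
    simp [Cfsg.classInner, Complex.mul_conj]
  rw [h, Complex.ofReal_re]
  exact mul_nonneg (inv_nonneg.2 (Nat.cast_nonneg _)) (Finset.sum_nonneg fun g _ => Complex.normSq_nonneg _)

/-- The base character contains no other exceptional character. -/
theorem mult_eq_zero (hS : TISetup M L)
    (hsum : ∀ θ : Cfsg.IrrCharacter L, 1 < deg θ → 2 * L.index * deg θ + L.index + 1 <
      ∑ x ∈ Finset.univ.filter (fun x : Cfsg.IrrCharacter L => deg x < deg θ), deg x ^ 2)
    {X : Cfsg.IrrCharacter G} {η₀ : Fam M L} (h1 : mult X η₀.1 = 1)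
    (h0 : ∀ η : Fam M L, η ≠ η₀ → mult X η.1 = 0) :
    ∀ η : Cfsg.IrrCharacter M, ¬ KTriv L η → η ≠ η₀.1 → mult X η = 0 := by
  set d := L.index with hd
  have hdpos : 0 < d := Nat.pos_of_ne_zero Subgroup.index_ne_zero_of_finite
  suffices h : ∀ D, ∀ η : Cfsg.IrrCharacter M, ¬ KTriv L η → η ≠ η₀.1 → deg η = D → mult X η = 0 from
    fun η hη hne => h _ η hη hne rfl
  intro D
  induction D using Nat.strong_induction_on with
  | _ D ih =>
    intro η hη hne hD
    obtain ⟨θ, hθ, rfl⟩ := exists_exIrr hS hη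
    by_cases hθ1 : deg θ = 1
    · have hf : deg (exIrr hS θ hθ) = L.index := by rw [deg_exIrr, hθ1, mul_one]
      exact h0 ⟨_, hη, hf⟩ fun e => hne (congrArg Subtype.val e)
    set η := exIrr hS θ hθ
    subst hD
    set P := Finset.univ.filter fun η' : Cfsg.IrrCharacter M =>
      ¬ KTriv L η' ∧ deg η' < deg η ∧ η' ≠ η₀.1 with hP
    have hPmem : ∀ {η'}, η' ∈ P → ¬ KTriv L η' ∧ deg η' < deg η ∧ η' ≠ η₀.1 := fun h =>
      (Finset.mem_filter.1 h).2
    set β : Cfsg.IrrCharacter M → G → ℂ := fun η' => Cfsg.indFun M (diffFun η₀ η') with hβ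
    have hββ : ∀ {η' η''}, ¬ KTriv L η' → η' ≠ η₀.1 → η'' ≠ η₀.1 →
        Cfsg.classInner (β η') (β η'') =
          (if η' = η'' then (d : ℂ) ^ 2 else 0) + (deg η' : ℂ) * deg η'' := by
      intro η' η'' hk hn hn'
      rw [hβ, ind_inner_supp hS, inner_diff η₀ hn hn']
      · have : diffFun η₀ η' 1 = 0 := by
          simp [diffFun, deg_spec, η₀.2.2, hd]
          ring
        rw [this, zero_mul, zero_div, add_zero]
      · intro x hx
        simp [diffFun, eq_zero_off hS hk x hx, eq_zero_off hS η₀.2.1 x hx]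
      · intro g h
        simp [diffFun, Char.irr_isClassFunction η''.2 g h, Char.irr_isClassFunction η₀.1.2 g h]
    have hXβ : ∀ η', Cfsg.classInner (X : G → ℂ) (β η') = (d : ℂ) * mult X η' - (deg η' : ℂ) := by
      intro η'
      simp only [hβ, diffFun, CharInd.indFun_sub, CharInd.indFun_smul, Char.classInner_sub_right,
        Char.classInner_smul_right, inner_ind, map_natCast, h1, Nat.cast_one, mul_one, ← hd]
    have hβX : ∀ η', Cfsg.classInner (β η') (X : G → ℂ) = (d : ℂ) * mult X η' - (deg η' : ℂ) := by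
      intro η'
      rw [← Char.classInner_conj, hXβ, map_sub, map_mul, map_natCast, map_natCast, map_natCast]
    have hXX := Char.classInner_irr_self X.2
    have hmP : ∀ {η'}, η' ∈ P → mult X η' = 0 := fun h =>
      ih _ (hPmem h).2.1 _ (hPmem h).1 (hPmem h).2.2 rfl
    set R : Cfsg.IrrCharacter M → G → ℂ := fun η' => β η' + (deg η' : ℂ) • (X : G → ℂ) with hR
    set a : ℂ := (mult X η : ℂ) with ha
    have hXR : ∀ {η'}, η' ∈ P → Cfsg.classInner (X : G → ℂ) (R η') = 0 := fun {η'} h => by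
      simp only [hR, Char.classInner_add_right, Char.classInner_smul_right, hXβ, hXX, hmP h,
        map_natCast, Nat.cast_zero]
      ring
    have hRX : ∀ {η'}, η' ∈ P → Cfsg.classInner (R η') (X : G → ℂ) = 0 := fun h => by
      rw [← Char.classInner_conj, hXR h, map_zero]
    have hRR : ∀ {η' η''}, η' ∈ P → η'' ∈ P → Cfsg.classInner (R η') (R η'') =
        if η' = η'' then (d : ℂ) ^ 2 else 0 := fun {η' η''} h h' => by
      simp only [hR, Char.classInner_add_left, Char.classInner_add_right, Char.classInner_smul_left,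
        Char.classInner_smul_right, hXβ, hβX, hXX, hmP h, hmP h', map_natCast, Nat.cast_zero,
        hββ (hPmem h).1 (hPmem h).2.2 (hPmem h').2.2]
      ring
    have hβR : ∀ {η'}, η' ∈ P → Cfsg.classInner (β η) (R η') = (d : ℂ) * a * deg η' := fun {η'} h => by
      have hne' : η ≠ η' := fun e => (hPmem h).2.1.ne (by rw [← e])
      simp only [hR, Char.classInner_add_right, Char.classInner_smul_right, map_natCast,
        hββ hη hne (hPmem h).2.2, if_neg hne', hβX, ← ha]
      ring
    have hRβ : ∀ {η'}, η' ∈ P → Cfsg.classInner (R η') (β η) = (d : ℂ) * a * deg η' := fun h => by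
      rw [← Char.classInner_conj, hβR h, map_mul, map_mul, map_natCast, map_natCast, ha, map_natCast]
    set v : G → ℂ := ∑ η' ∈ P, (deg η' : ℂ) • R η' with hv
    set T : ℕ := ∑ η' ∈ P, deg η' ^ 2 with hT
    have hTc : (T : ℂ) = ∑ η' ∈ P, (deg η' : ℂ) ^ 2 := by rw [hT]; push_cast; rfl
    have hvv : Cfsg.classInner v v = (d : ℂ) ^ 2 * T := by
      rw [hv, Char.classInner_sum_left, hTc, Finset.mul_sum]
      refine Finset.sum_congr rfl fun η' h => ?_
      rw [Char.classInner_smul_left, Char.classInner_sum_right, Finset.sum_eq_single η']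
      · rw [Char.classInner_smul_right, hRR h h, if_pos rfl, map_natCast]; ring
      · intro η'' h'' hne''
        rw [Char.classInner_smul_right, hRR h h'', if_neg (Ne.symm hne''), mul_zero]
      · exact fun h' => absurd h h'
    have hβv : Cfsg.classInner (β η) v = (d : ℂ) * a * T := by
      rw [hv, Char.classInner_sum_right, hTc, Finset.mul_sum]
      refine Finset.sum_congr rfl fun η' h => ?_
      rw [Char.classInner_smul_right, hβR h, map_natCast]; ring
    have hvβ : Cfsg.classInner v (β η) = (d : ℂ) * a * T := by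
      rw [← Char.classInner_conj, hβv, map_mul, map_mul, map_natCast, map_natCast, ha, map_natCast]
    have hvX : Cfsg.classInner v (X : G → ℂ) = 0 := by
      rw [hv, Char.classInner_sum_left]
      exact Finset.sum_eq_zero fun η' h => by rw [Char.classInner_smul_left, hRX h, mul_zero]
    have hXv : Cfsg.classInner (X : G → ℂ) v = 0 := by
      rw [← Char.classInner_conj, hvX, map_zero]
    set c : ℂ := (d : ℂ) * a - (deg η : ℂ) with hc
    have hcc : conj c = c := by rw [hc, map_sub, map_mul, map_natCast, map_natCast, ha, map_natCast]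
    have hac : conj a = a := by rw [ha, map_natCast]
    have hnorm := classInner_self_re_nonneg ((d : ℂ) • β η - ((d : ℂ) * c) • (X : G → ℂ) - a • v)
    have hw : Cfsg.classInner ((d : ℂ) • β η - ((d : ℂ) * c) • (X : G → ℂ) - a • v)
        ((d : ℂ) • β η - ((d : ℂ) * c) • (X : G → ℂ) - a • v) =
        (d : ℂ) ^ 2 * ((d : ℂ) ^ 2 + (deg η : ℂ) ^ 2 - c ^ 2 - a ^ 2 * T) := by
      simp only [Char.classInner_sub_left, Char.classInner_sub_right, Char.classInner_smul_left,
        Char.classInner_smul_right, map_mul, hcc, hac, map_natCast, hXX, hvv, hβv, hvβ, hvX, hXv,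
        hββ hη hne hne, if_pos, hXβ, hβX, ← ha, ← hc]
      ring
    have hcast : (d : ℂ) ^ 2 * ((d : ℂ) ^ 2 + (deg η : ℂ) ^ 2 - c ^ 2 - a ^ 2 * T) =
        (((d : ℝ) ^ 2 * ((d : ℝ) ^ 2 + (deg η : ℝ) ^ 2 - ((d : ℝ) * mult X η - deg η) ^ 2 -
          (mult X η : ℝ) ^ 2 * T) : ℝ) : ℂ) := by
      rw [hc, ha]; push_cast; ring
    rw [hw, hcast, Complex.ofReal_re] at hnorm
    have hineq : (mult X η : ℝ) ^ 2 * (T + (d : ℝ) ^ 2) ≤
        2 * d * mult X η * deg η + (d : ℝ) ^ 2 := by
      have hd2 : (0 : ℝ) < (d : ℝ) ^ 2 := by positivity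
      have := nonneg_of_mul_nonneg_right hnorm hd2
      linarith [this, sq_nonneg ((d : ℝ) * mult X η)]
    -- the smaller characters weigh more
    have hTbig : 2 * d * deg η + d ^ 2 < T + d ^ 2 := by
      have hηd : deg η = d * deg θ := deg_exIrr hS θ hθ
      have hηlt : d < deg η := by
        rw [hηd]
        exact lt_mul_of_one_lt_right hdpos (by have := deg_pos θ; omega)
      have hsplit := sum_exceptional hS (fun D => D < deg η)
      have hLHS : ∑ η' ∈ Finset.univ.filter (fun η' : Cfsg.IrrCharacter M =>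
          ¬ KTriv L η' ∧ deg η' < deg η), deg η' ^ 2 = T + d ^ 2 := by
        rw [← Finset.sum_erase_add (Finset.univ.filter fun η' : Cfsg.IrrCharacter M =>
          ¬ KTriv L η' ∧ deg η' < deg η) (fun η' => deg η' ^ 2) (a := η₀.1)
          (Finset.mem_filter.2 ⟨Finset.mem_univ _, η₀.2.1, by rw [η₀.2.2]; exact hηlt⟩), η₀.2.2]
        congr 1
        rw [hT]
        refine Finset.sum_congr ?_ fun _ _ => rfl
        ext η'
        simp only [hP, Finset.mem_erase, Finset.mem_filter, Finset.mem_univ, true_and]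
        tauto
      rw [hLHS] at hsplit
      have hset : (Finset.univ.filter fun x : Cfsg.IrrCharacter L =>
          x ≠ Char.trivialIrr L ∧ L.index * deg x < deg η) =
          (Finset.univ.filter fun x : Cfsg.IrrCharacter L => deg x < deg θ).erase (Char.trivialIrr L) := by
        ext x
        simp only [Finset.mem_filter, Finset.mem_univ, true_and, Finset.mem_erase, hηd, ← hd,
          Nat.mul_lt_mul_left hdpos]
      have hsum' := hsum θ (by have := deg_pos θ; omega)
      rw [← Finset.sum_erase_add _ (fun x => deg x ^ 2) (a := Char.trivialIrr L)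
        (Finset.mem_filter.2 ⟨Finset.mem_univ _, by rw [deg_trivialIrr]; have := deg_pos θ; omega⟩),
        deg_trivialIrr, one_pow] at hsum'
      rw [hset, ← hd] at hsplit
      rw [hsplit, hηd]
      calc 2 * d * (d * deg θ) + d ^ 2 = d * (2 * d * deg θ + d) := by ring
        _ < _ := Nat.mul_lt_mul_of_pos_left (by omega) hdpos
    by_contra hm
    have hm1 : (1 : ℝ) ≤ mult X η := by exact_mod_cast Nat.one_le_iff_ne_zero.2 hm
    have hTbig' : 2 * (d : ℝ) * deg η + (d : ℝ) ^ 2 < (T : ℝ) + (d : ℝ) ^ 2 := by exact_mod_cast hTbig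
    have hsq : (mult X η : ℝ) ≤ (mult X η : ℝ) ^ 2 := by nlinarith
    have hd0 : (0 : ℝ) ≤ (d : ℝ) ^ 2 := sq_nonneg _
    nlinarith [mul_lt_mul_of_pos_left hTbig' (lt_of_lt_of_le one_pos (hm1.trans hsq)),
      mul_le_mul_of_nonneg_left hsq (show (0 : ℝ) ≤ 2 * d * deg η by positivity),
      mul_le_mul_of_nonneg_left (hm1.trans hsq) hd0]

/-- The derived subgroup of the kernel lies in the kernel of the base character. -/
theorem kernel_comm [IsSimpleGroup G] (hS : TISetup M L) {X : Cfsg.IrrCharacter G} {η₀ : Fam M L}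
    (h1 : mult X η₀.1 = 1)
    (h0 : ∀ η : Cfsg.IrrCharacter M, ¬ KTriv L η → η ≠ η₀.1 → mult X η = 0) :
    commutator L = ⊥ := by
  rw [Subgroup.eq_bot_iff_forall]
  intro k hk
  have hres := Char.eq_sum_classInner_smul (f := fun x : M => (X : G → ℂ) x)
    (fun g h => Char.irr_isClassFunction X.2 g h)
  have hXk : (X : G → ℂ) ((k : M) : G) = (X : G → ℂ) 1 := by
    have e1 := congrFun hres (k : M)
    have e2 := congrFun hres 1
    simp only [Finset.sum_apply, Pi.smul_apply, smul_eq_mul, mult_spec, OneMemClass.coe_one] at e1 e2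
    rw [e1, e2]
    refine Finset.sum_congr rfl fun η _ => ?_
    by_cases hη : KTriv L η
    · rw [hη k k.2]
    · by_cases hη0 : η = η₀.1
      · rw [hη0, smallest_apply_commutator hS η₀.2.1 η₀.2.2 hk]
      · simp [h0 η hη hη0]
  obtain ⟨K, hKn, hK⟩ := Char.isCharacter_exists_kernel (Char.isCharacter_of_irr X.2)
  rcases hKn.eq_bot_or_eq_top with hbot | htop
  · have : ((k : M) : G) ∈ K := (hK _).2 hXk
    rw [hbot, Subgroup.mem_bot] at this
    exact Subtype.ext (Subtype.ext this)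
  · exfalso
    have hall : ∀ g, (X : G → ℂ) g = (X : G → ℂ) 1 := fun g => (hK g).1 (htop ▸ Subgroup.mem_top g)
    have hX1 : (X : G → ℂ) = fun _ => 1 := by
      by_contra hne
      have h := Char.irr_sum_eq_zero X.2 hne
      rw [Finset.sum_congr rfl (fun g _ => hall g), Finset.sum_const, nsmul_eq_mul, mul_eq_zero] at h
      rcases h with h | h
      · simp at h
      · exact Char.irr_one_ne_zero X.2 h
    have h := mult_spec X η₀.1
    rw [h1, hX1, Nat.cast_one] at h
    rw [Char.classInner_irr_ne (Char.isIrrCharacter_const_one (G := M)) η₀.1.2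
      (fun e => η₀.2.1 fun x _ => by rw [← e])] at h
    exact zero_ne_one h

end Cfsg.Agent.Zassenhaus
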