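import Cfsg.Agent.Char.Product
import Cfsg.Agent.Char.Linear
import Cfsg.Agent.Char.Kernel
import Cfsg.Agent.Char.Nilpotent
import Mathlib.GroupTheory.Solvable
import Mathlib.GroupTheory.SchurZassenhaus
import Mathlib.GroupTheory.Nilpotent
import Mathlib.Algebra.IsPrimePow

/-!
# Degrees of the irreducible characters of a nilpotent Frobenius kernel
-/

set_option autoImplicit false
set_option linter.style.haveILetI false

noncomputable section

namespace Cfsg.Agent.Zassenhaus

universe u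

variable {L : Type u} [Group L]

/-- The degree of an irreducible character as a natural number. -/
def deg (θ : Cfsg.IrrCharacter L) : ℕ := Classical.choose (Char.irr_one_pos θ.2)

theorem deg_pos (θ : Cfsg.IrrCharacter L) : 0 < deg θ :=
  (Classical.choose_spec (Char.irr_one_pos θ.2)).1

theorem deg_spec (θ : Cfsg.IrrCharacter L) : (θ : L → ℂ) 1 = (deg θ : ℂ) :=
  (Classical.choose_spec (Char.irr_one_pos θ.2)).2

theorem deg_dvd_card [Finite L] (θ : Cfsg.IrrCharacter L) : deg θ ∣ Nat.card L := by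
  obtain ⟨b, -, hb, hdvd⟩ := Char.irr_degree_dvd_card θ.2
  rw [deg_spec] at hb
  rwa [Nat.cast_injective hb]

theorem deg_trivialIrr [Finite L] : deg (Char.trivialIrr L) = 1 := by
  have h : (1 : ℂ) = (deg (Char.trivialIrr L) : ℂ) := deg_spec (Char.trivialIrr L)
  exact_mod_cast h.symm

theorem sum_deg_sq [Fintype L] : ∑ θ : Cfsg.IrrCharacter L, deg θ ^ 2 = Nat.card L := by
  have h := Char.sum_irr_degree_sq (G := L)
  simp only [deg_spec] at h
  exact_mod_cast h

open Classical in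
theorem card_deg_one [Fintype L] :
    (Finset.univ.filter fun θ : Cfsg.IrrCharacter L => deg θ = 1).card = (commutator L).index := by
  rw [← Char.card_linear_irr, Nat.card_eq_fintype_card, ← Fintype.card_subtype]
  refine Fintype.card_congr (Equiv.subtypeEquivRight fun θ => ?_)
  rw [deg_spec]
  norm_cast

/-- The nontrivial irreducible characters fall into blocks of `d` relatives of the same degree and
with the same kernel among the characteristic subgroups (the orbits of a fixed point free operator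
group of order `d`). -/
def Orbits (L : Type u) [Group L] [Finite L] (d : ℕ) : Prop :=
  ∃ F : Cfsg.IrrCharacter L → Finset (Cfsg.IrrCharacter L),
    ∀ θ : Cfsg.IrrCharacter L, θ ≠ Char.trivialIrr L → θ ∈ F θ ∧ (F θ).card = d ∧
      ∀ θ' ∈ F θ, θ' ≠ Char.trivialIrr L ∧ deg θ' = deg θ ∧ F θ' = F θ ∧
        ∀ K : Subgroup L, K.Characteristic → (∀ k ∈ K, (θ : L → ℂ) k = (θ : L → ℂ) 1) →
          ∀ k ∈ K, (θ' : L → ℂ) k = (θ' : L → ℂ) 1

/-- A nilpotent group that is not of prime power order splits at every prime. -/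
theorem exists_split [Finite L] (hnil : Group.IsNilpotent L) (hne : Nontrivial L)
    (hpp : ¬ IsPrimePow (Nat.card L)) {p : ℕ} [Fact p.Prime] :
    ∃ P Q : Subgroup L, P.Characteristic ∧ IsPGroup p P ∧ Q ≠ ⊥ ∧ ¬ p ∣ Nat.card Q ∧
      Subgroup.IsComplement' P Q ∧ ∀ x ∈ P, ∀ y ∈ Q, x * y = y * x := by
  haveI := hnil
  haveI := hne
  obtain ⟨P⟩ : Nonempty (Sylow p L) := inferInstance
  haveI hPn : (P : Subgroup L).Normal :=
    Sylow.normal_of_normalizerCondition Group.normalizerCondition_of_isNilpotent P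
  haveI : (P : Subgroup L).Characteristic := Sylow.characteristic_of_normal P hPn
  have hcop : Nat.Coprime (Nat.card (P : Subgroup L)) (P : Subgroup L).index := P.card_coprime_index
  obtain ⟨Q, hQ⟩ := Subgroup.exists_right_complement'_of_coprime hcop
  have hQi : Nat.card Q = (P : Subgroup L).index := hQ.symm.index_eq_card.symm
  have hndvd : ¬ p ∣ Nat.card Q := hQi ▸ P.not_dvd_index
  obtain ⟨k, hk⟩ := P.2.exists_card_eq
  refine ⟨P, Q, inferInstance, P.2, ?_, hndvd, hQ, fun x hx y hy => ?_⟩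
  · intro h
    apply hpp
    have hcard := hQ.card_mul_card
    rw [h, Subgroup.card_bot, mul_one] at hcard
    have hk0 : k ≠ 0 := fun e => by
      rw [e, pow_zero] at hk
      have := Finite.one_lt_card (α := L)
      omega
    rw [← hcard, hk]
    exact (isPrimePow_pow_iff hk0).2 (Fact.out (p := p.Prime)).prime.isPrimePow
  · refine (Char.nilpotent_commute_of_coprime ?_).eq
    refine Nat.Coprime.of_dvd (Subgroup.orderOf_dvd_natCard _ hx) (Subgroup.orderOf_dvd_natCard _ hy) ?_
    rw [hk]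
    exact Nat.Coprime.pow_left _ ((Fact.out (p := p.Prime)).coprime_iff_not_dvd.2 hndvd)

section Split

variable [Fintype L] {P Q : Subgroup L} (hPQ : Subgroup.IsComplement' P Q)
  (hcomm : ∀ x ∈ P, ∀ y ∈ Q, x * y = y * x)

/-- The multiplication map of commuting factors. -/
def splitHom : P × Q →* L where
  toFun x := (x.1 : L) * x.2
  map_one' := by simp
  map_mul' x y := by
    show ((x.1 * y.1 : P) : L) * ((x.2 * y.2 : Q) : L) = (x.1 : L) * x.2 * (y.1 * y.2)
    rw [Subgroup.coe_mul, Subgroup.coe_mul,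
      show (x.1 : L) * y.1 * (x.2 * y.2) = x.1 * (y.1 * x.2) * y.2 by group,
      hcomm _ y.1.2 _ x.2.2]
    group

/-- The product decomposition. -/
def splitEquiv : P × Q ≃* L := MulEquiv.ofBijective (splitHom hcomm) hPQ

/-- A product of irreducible characters of the factors. -/
def prodIrr (α : Cfsg.IrrCharacter P) (β : Cfsg.IrrCharacter Q) : Cfsg.IrrCharacter L :=
  ⟨_, Char.isIrrCharacter_comp_mulEquiv (Char.isIrrCharacter_prodMul α.2 β.2)
    (splitEquiv hPQ hcomm).symm⟩

theorem prodIrr_apply (α : Cfsg.IrrCharacter P) (β : Cfsg.IrrCharacter Q) (x : P) (y : Q) :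
    (prodIrr hPQ hcomm α β : L → ℂ) (x * y) = (α : P → ℂ) x * (β : Q → ℂ) y := by
  have h : (splitEquiv hPQ hcomm).symm ((x : L) * y) = (x, y) :=
    (MulEquiv.symm_apply_eq _).2 rfl
  show (fun z : P × Q => (α : P → ℂ) z.1 * (β : Q → ℂ) z.2)
    ((splitEquiv hPQ hcomm).symm ((x : L) * y)) = _
  rw [h]

theorem deg_prodIrr (α : Cfsg.IrrCharacter P) (β : Cfsg.IrrCharacter Q) :
    deg (prodIrr hPQ hcomm α β) = deg α * deg β := by
  have h := deg_spec (prodIrr hPQ hcomm α β)
  have h1 := prodIrr_apply hPQ hcomm α β 1 1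
  rw [OneMemClass.coe_one, OneMemClass.coe_one, one_mul, h, deg_spec, deg_spec] at h1
  exact_mod_cast h1

theorem exists_prodIrr (θ : Cfsg.IrrCharacter L) : ∃ α β, θ = prodIrr hPQ hcomm α β := by
  obtain ⟨α, β, h⟩ := Char.exists_irr_prodMul
    (Char.isIrrCharacter_comp_mulEquiv θ.2 (splitEquiv hPQ hcomm))
  refine ⟨α, β, Subtype.ext (funext fun z => ?_)⟩
  obtain ⟨⟨x, y⟩, rfl⟩ := (splitEquiv hPQ hcomm).surjective z
  exact (congrFun h (x, y)).trans (prodIrr_apply hPQ hcomm α β x y).symm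

theorem prodIrr_injective :
    Function.Injective fun ab : Cfsg.IrrCharacter P × Cfsg.IrrCharacter Q =>
      prodIrr hPQ hcomm ab.1 ab.2 := by
  rintro ⟨a, b⟩ ⟨a', b'⟩ h
  have h' : ∀ (x : P) (y : Q), (a : P → ℂ) x * (b : Q → ℂ) y = (a' : P → ℂ) x * (b' : Q → ℂ) y :=
    fun x y => by
      rw [← prodIrr_apply hPQ hcomm, ← prodIrr_apply hPQ hcomm]
      exact congrFun (congrArg Subtype.val h) _
  have hd : deg a * deg b = deg a' * deg b' := by
    have := h' 1 1
    rw [deg_spec, deg_spec, deg_spec, deg_spec] at this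
    exact_mod_cast this
  have ha : (deg b : ℂ) • (a : P → ℂ) = (deg b' : ℂ) • (a' : P → ℂ) := funext fun x => by
    have := h' x 1
    rw [deg_spec, deg_spec] at this
    simpa [mul_comm] using this
  have hae : a = a' := by
    classical
    by_contra hne
    have := congrArg (fun f => Cfsg.classInner f (a : P → ℂ)) ha
    simp [Char.classInner_smul_left, Char.classInner_irrCharacter, Ne.symm hne] at this
    exact (deg_pos b).ne' this
  subst hae
  refine Prod.ext rfl (Subtype.ext (funext fun y => ?_))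
  exact mul_left_cancel₀ (Char.irr_one_ne_zero a.2) (h' 1 y)

open Classical in
theorem prod_sum_le (A : Finset (Cfsg.IrrCharacter P)) (B : Finset (Cfsg.IrrCharacter Q))
    (S : Finset (Cfsg.IrrCharacter L))
    (h : ∀ a ∈ A, ∀ b ∈ B, prodIrr hPQ hcomm a b ∈ S) :
    (∑ a ∈ A, deg a ^ 2) * (∑ b ∈ B, deg b ^ 2) ≤ ∑ θ ∈ S, deg θ ^ 2 := by
  rw [Finset.sum_mul_sum, ← Finset.sum_product']
  calc ∑ ab ∈ A ×ˢ B, deg ab.1 ^ 2 * deg ab.2 ^ 2
      = ∑ θ ∈ (A ×ˢ B).image (fun ab => prodIrr hPQ hcomm ab.1 ab.2), deg θ ^ 2 := by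
        rw [Finset.sum_image fun x _ y _ e => prodIrr_injective hPQ hcomm e]
        exact Finset.sum_congr rfl fun ab _ => by rw [deg_prodIrr, mul_pow]
    _ ≤ ∑ θ ∈ S, deg θ ^ 2 := Finset.sum_le_sum_of_subset fun θ hθ => by
        obtain ⟨⟨a, b⟩, hab, rfl⟩ := Finset.mem_image.1 hθ
        exact h a (Finset.mem_product.1 hab).1 b (Finset.mem_product.1 hab).2

end Split

open Classical in
/-- The small degree characters of a `p`-group weigh at least `p ^ (2 i)`. -/
theorem pow_le_sum_small {p i : ℕ} [Fact p.Prime] [Fintype L] (hP : IsPGroup p L)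
    (hex : ∃ θ : Cfsg.IrrCharacter L, deg θ = p ^ i) (hi : 0 < i) :
    p ^ (2 * i) ≤ ∑ θ ∈ Finset.univ.filter (fun θ : Cfsg.IrrCharacter L => deg θ < p ^ i),
      deg θ ^ 2 := by
  obtain ⟨k, hk⟩ := IsPGroup.iff_card.1 hP
  have hp := Fact.out (p := p.Prime)
  have htot := sum_deg_sq (L := L)
  obtain ⟨θ₀, hθ₀⟩ := hex
  have hik : p ^ (2 * i) ∣ Nat.card L := by
    rw [hk]
    refine pow_dvd_pow p ?_
    have h1 : deg θ₀ ^ 2 ≤ p ^ k := by
      rw [← hk, ← htot]
      exact Finset.single_le_sum (f := fun θ => deg θ ^ 2) (fun _ _ => Nat.zero_le _)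
        (Finset.mem_univ θ₀)
    rw [hθ₀, ← pow_mul, mul_comm] at h1
    exact (Nat.pow_le_pow_iff_right hp.one_lt).1 h1
  have hlarge : p ^ (2 * i) ∣
      ∑ θ ∈ Finset.univ.filter (fun θ : Cfsg.IrrCharacter L => ¬ deg θ < p ^ i), deg θ ^ 2 := by
    refine Finset.dvd_sum fun θ hθ => ?_
    obtain ⟨j, -, hj⟩ := (Nat.dvd_prime_pow hp).1 (hk ▸ deg_dvd_card θ)
    have hij : p ^ i ≤ p ^ j := hj ▸ not_lt.1 (Finset.mem_filter.1 hθ).2
    rw [hj, ← pow_mul, mul_comm j]
    exact pow_dvd_pow p (Nat.mul_le_mul_left 2 ((Nat.pow_le_pow_iff_right hp.one_lt).1 hij))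
  refine Nat.le_of_dvd ?_ ?_
  · refine Finset.sum_pos' (fun _ _ => Nat.zero_le _) ⟨Char.trivialIrr L, ?_, ?_⟩
    · rw [Finset.mem_filter, deg_trivialIrr]
      exact ⟨Finset.mem_univ _, Nat.one_lt_pow hi.ne' hp.one_lt⟩
    · rw [deg_trivialIrr]; norm_num
  · rw [← htot, ← Finset.sum_filter_add_sum_filter_not Finset.univ
      (fun θ : Cfsg.IrrCharacter L => deg θ < p ^ i)] at hik
    exact (Nat.dvd_add_left hlarge).1 hik

variable [Fintype L] {P Q : Subgroup L} (hPQ : Subgroup.IsComplement' P Q)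
  (hcomm : ∀ x ∈ P, ∀ y ∈ Q, x * y = y * x)

include hPQ hcomm in
open Classical in
/-- Orbits give blocks of `d` characters of the complementary factor. -/
theorem factor_orbit {d : ℕ} (horb : Orbits L d) (hPc : P.Characteristic) :
    ∃ O : Cfsg.IrrCharacter Q → Finset (Cfsg.IrrCharacter Q),
      ∀ β, β ≠ Char.trivialIrr Q → β ∈ O β ∧ (O β).card = d ∧
        ∀ β' ∈ O β, β' ≠ Char.trivialIrr Q ∧ deg β' = deg β ∧ O β' = O β := by
  obtain ⟨F, hF⟩ := horb
  set α₀ := Char.trivialIrr P with hα₀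
  have htriv : prodIrr hPQ hcomm α₀ (Char.trivialIrr Q) = Char.trivialIrr L := by
    refine Subtype.ext (funext fun z => ?_)
    obtain ⟨⟨x, y⟩, rfl⟩ := (splitEquiv hPQ hcomm).surjective z
    refine (prodIrr_apply hPQ hcomm _ _ x y).trans ?_
    show (1 : ℂ) * 1 = 1
    rw [one_mul]
  have hinj : Function.Injective fun β => prodIrr hPQ hcomm α₀ β := fun b b' e =>
    congrArg Prod.snd (prodIrr_injective hPQ hcomm (a₁ := (α₀, b)) (a₂ := (α₀, b')) e)
  refine ⟨fun β => Finset.univ.filter fun β' => prodIrr hPQ hcomm α₀ β' ∈ F (prodIrr hPQ hcomm α₀ β),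
    fun β hβ => ?_⟩
  have hne : prodIrr hPQ hcomm α₀ β ≠ Char.trivialIrr L := fun e => hβ (hinj (e.trans htriv.symm))
  obtain ⟨hmem, hcard, hrel⟩ := hF _ hne
  have hker : ∀ k ∈ P, (prodIrr hPQ hcomm α₀ β : L → ℂ) k = (prodIrr hPQ hcomm α₀ β : L → ℂ) 1 := by
    intro k hk
    have h1 := prodIrr_apply hPQ hcomm α₀ β ⟨k, hk⟩ 1
    have h2 := prodIrr_apply hPQ hcomm α₀ β 1 1
    simp only [OneMemClass.coe_one, mul_one, one_mul] at h1 h2
    rw [h1, h2]
    rfl
  have hsplit : ∀ θ ∈ F (prodIrr hPQ hcomm α₀ β), ∃ β', prodIrr hPQ hcomm α₀ β' = θ := by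
    intro θ hθ
    obtain ⟨α', β', rfl⟩ := exists_prodIrr hPQ hcomm θ
    refine ⟨β', ?_⟩
    suffices α' = α₀ by rw [this]
    by_contra hne
    have hconst : ∀ x : P, (α' : P → ℂ) x = (α' : P → ℂ) 1 := by
      intro x
      have h1 := (hrel _ hθ).2.2.2 P hPc hker x x.2
      have h2 := prodIrr_apply hPQ hcomm α' β' x 1
      have h3 := prodIrr_apply hPQ hcomm α' β' 1 1
      simp only [OneMemClass.coe_one, mul_one] at h2 h3
      rw [h2, h3] at h1
      exact mul_right_cancel₀ (Char.irr_one_ne_zero β'.2) h1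
    have h0 := Char.irr_sum_eq_zero α'.2 (fun e => hne (Subtype.ext e))
    rw [Finset.sum_congr rfl (fun x _ => hconst x), Finset.sum_const, nsmul_eq_mul,
      mul_eq_zero] at h0
    rcases h0 with h0 | h0
    · simp at h0
    · exact Char.irr_one_ne_zero α'.2 h0
  refine ⟨by simpa using hmem, ?_, fun β' hβ' => ?_⟩
  · have himg : (Finset.univ.filter fun β' => prodIrr hPQ hcomm α₀ β' ∈ F (prodIrr hPQ hcomm α₀ β)).image
        (fun β' => prodIrr hPQ hcomm α₀ β') = F (prodIrr hPQ hcomm α₀ β) := by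
      ext θ
      simp only [Finset.mem_image, Finset.mem_filter, Finset.mem_univ, true_and]
      exact ⟨fun ⟨b, hb, e⟩ => e ▸ hb, fun h => ⟨_, (hsplit θ h).choose_spec.symm ▸ h, (hsplit θ h).choose_spec⟩⟩
    rw [← hcard, ← himg, Finset.card_image_of_injective _ hinj]
  · obtain ⟨h1, h2, h3, -⟩ := hrel _ (Finset.mem_filter.1 hβ').2
    refine ⟨fun e => h1 (by rw [e, htriv]), ?_, ?_⟩
    · rw [deg_prodIrr, deg_prodIrr] at h2
      exact Nat.eq_of_mul_eq_mul_left (deg_pos α₀) h2
    · simp only [h3]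

include hPQ hcomm in
open Classical in
/-- The linear characters and the orbit of a given one, in the complementary factor. -/
theorem factor_sum_ge {d : ℕ} (horb : Orbits L d) (hPc : P.Characteristic)
    (hnil : Group.IsNilpotent Q) (hQ : Q ≠ ⊥) (β₀ : Cfsg.IrrCharacter Q) :
    d + 1 ≤ (commutator Q).index ∧
    (d + 1 < (commutator Q).index → 2 * d + 1 ≤ (commutator Q).index) ∧ (commutator Q).index +
        (if deg β₀ = 1 then 0 else d * deg β₀ ^ 2) ≤
      ∑ β ∈ Finset.univ.filter (fun β : Cfsg.IrrCharacter Q => deg β ≤ deg β₀), deg β ^ 2 := by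
  haveI := hnil
  haveI : Nontrivial Q := (Subgroup.nontrivial_iff_ne_bot Q).2 hQ
  set Lin := Finset.univ.filter (fun β : Cfsg.IrrCharacter Q => deg β = 1) with hLin
  have hlt : 1 < Lin.card := by
    rw [hLin, card_deg_one]
    have h1 : commutator Q ≠ ⊤ :=
      (Group.IsSolvable.commutator_lt_top_of_nontrivial Q).ne
    have := Subgroup.index_ne_zero_of_finite (H := commutator Q)
    have := mt Subgroup.index_eq_one.1 h1
    omega
  obtain ⟨β₁, hβ₁, hβ₁ne⟩ := Finset.exists_mem_ne hlt (Char.trivialIrr Q)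
  obtain ⟨O, hO⟩ := factor_orbit hPQ hcomm horb hPc
  obtain ⟨-, hF₁c, hF₁⟩ := hO β₁ hβ₁ne
  have hins : ∀ β, β ∈ Lin → β ≠ Char.trivialIrr Q → O β ⊆ Lin := fun β hβ hβne x hx => by
    rw [hLin, Finset.mem_filter]
    exact ⟨Finset.mem_univ _, ((hO β hβne).2.2 x hx).2.1.trans (Finset.mem_filter.1 hβ).2⟩
  have hsub : insert (Char.trivialIrr Q) (O β₁) ⊆ Lin := Finset.insert_subset
    (Finset.mem_filter.2 ⟨Finset.mem_univ _, deg_trivialIrr⟩) (hins β₁ hβ₁ hβ₁ne)
  have hcard₁ : (insert (Char.trivialIrr Q) (O β₁)).card = d + 1 := by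
    rw [Finset.card_insert_of_notMem fun h => (hF₁ _ h).1 rfl, hF₁c]
  refine ⟨?_, fun hmore => ?_, ?_⟩
  · rw [← card_deg_one, ← hLin, ← hcard₁]
    exact Finset.card_le_card hsub
  · rw [← card_deg_one, ← hLin] at hmore ⊢
    obtain ⟨β₂, hβ₂, hβ₂'⟩ := Finset.exists_mem_notMem_of_card_lt_card (t := Lin) (by rw [hcard₁]; exact hmore)
    rw [Finset.mem_insert, not_or] at hβ₂'
    obtain ⟨hm₂, hF₂c, hF₂⟩ := hO β₂ hβ₂'.1
    have hdisj : Disjoint (insert (Char.trivialIrr Q) (O β₁)) (O β₂) := by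
      rw [Finset.disjoint_left]
      intro x hx hx'
      rcases Finset.mem_insert.1 hx with rfl | hx
      · exact (hF₂ _ hx').1 rfl
      · apply hβ₂'.2
        rw [← (hF₁ x hx).2.2, (hF₂ x hx').2.2]
        exact hm₂
    have := Finset.card_le_card (Finset.union_subset hsub (hins β₂ hβ₂ hβ₂'.1))
    rw [Finset.card_union_of_disjoint hdisj, hcard₁, hF₂c] at this
    omega
  have hlinsum : ∑ β ∈ Lin, deg β ^ 2 = (commutator Q).index := by
    rw [Finset.sum_congr rfl (fun β hβ => by rw [(Finset.mem_filter.1 hβ).2, one_pow]),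
      ← Finset.card_eq_sum_ones, hLin, card_deg_one]
  split_ifs with h1
  · rw [add_zero, ← hlinsum]
    refine Finset.sum_le_sum_of_subset fun x hx => ?_
    rw [Finset.mem_filter, (Finset.mem_filter.1 hx).2, h1]
    exact ⟨Finset.mem_univ _, le_rfl⟩
  · obtain ⟨-, hFc, hF⟩ := hO β₀ (fun e => h1 (e ▸ deg_trivialIrr))
    rw [← hlinsum, show d * deg β₀ ^ 2 = ∑ β ∈ O β₀, deg β ^ 2 by
      rw [Finset.sum_congr rfl (fun β hβ => by rw [(hF β hβ).2.1]), Finset.sum_const, hFc, smul_eq_mul],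
      ← Finset.sum_union (Finset.disjoint_left.2 fun x hx hx' =>
        h1 ((hF x hx').2.1 ▸ (Finset.mem_filter.1 hx).2))]
    refine Finset.sum_le_sum_of_subset fun x hx => ?_
    rw [Finset.mem_filter]
    refine ⟨Finset.mem_univ _, ?_⟩
    rcases Finset.mem_union.1 hx with hx | hx
    · rw [(Finset.mem_filter.1 hx).2]; exact deg_pos β₀
    · exact (hF x hx).2.1.le

open Classical in
/-- Many linear characters. -/
theorem index_commutator_ge {d : ℕ} (hnil : Group.IsNilpotent L) (hne : Nontrivial L)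
    (hpp : ¬ IsPrimePow (Nat.card L)) (horb : Orbits L d) :
    (d + 1) * (d + 2) ≤ (commutator L).index := by
  obtain ⟨p, hp, hpd⟩ := Nat.exists_prime_and_dvd (Finite.one_lt_card (α := L)).ne'
  haveI := Fact.mk hp
  obtain ⟨P, Q, hPc, hPp, hQ1, hndvd, hPQ, hcomm⟩ := exists_split hnil hne hpp (p := p)
  haveI := hnil
  have hcop : Nat.Coprime (Nat.card P) (Nat.card Q) := by
    obtain ⟨k, hk⟩ := IsPGroup.iff_card.1 hPp
    rw [hk]
    exact Nat.Coprime.pow_left _ (hp.coprime_iff_not_dvd.2 hndvd)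
  have hP1 : P ≠ ⊥ := fun h => hndvd (by
    have := hPQ.card_mul_card
    rw [h, Subgroup.card_bot, one_mul] at this
    rw [this]; exact hpd)
  have hQc : Q.Characteristic := by
    haveI : P.Normal := inferInstance
    have hQn : Q.Normal := ⟨fun y hy z => by
      obtain ⟨⟨x, w⟩, rfl⟩ := hPQ.2 z
      have e : (x : L) * w * y * ((x : L) * w)⁻¹ = (x : L) * ((w : L) * y * (w : L)⁻¹) * (x : L)⁻¹ := by
        group
      show (x : L) * w * y * ((x : L) * w)⁻¹ ∈ Q
      have hwy := Q.mul_mem (Q.mul_mem w.2 hy) (Q.inv_mem w.2)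
      rw [e, hcomm _ x.2 _ hwy, mul_inv_cancel_right]
      exact hwy⟩
    rw [Subgroup.characteristic_iff_map_le]
    intro φ
    haveI := hQn
    have hcard : Nat.card (Q.map φ.toMonoidHom) = Nat.card Q :=
      (Nat.card_congr (Subgroup.equivMapOfInjective _ _ φ.injective).toEquiv).symm
    rintro z hz
    obtain ⟨⟨x, w⟩, rfl⟩ := hPQ.2 z
    have h1 := Subgroup.orderOf_dvd_natCard _ hz
    rw [hcard] at h1
    have hx1 : (x : L) = 1 := by
      have h2 : ((x : L) * w) ^ Nat.card Q = 1 := orderOf_dvd_iff_pow_eq_one.1 h1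
      rw [(show Commute (x : L) w from hcomm _ x.2 _ w.2).mul_pow,
        orderOf_dvd_iff_pow_eq_one.1 (Subgroup.orderOf_dvd_natCard Q w.2), mul_one,
        ← orderOf_dvd_iff_pow_eq_one] at h2
      exact orderOf_eq_one_iff.1
        (Nat.eq_one_of_dvd_coprimes hcop (Subgroup.orderOf_dvd_natCard P x.2) h2)
    show (x : L) * w ∈ Q
    rw [hx1, one_mul]
    exact w.2
  have hQP : Subgroup.IsComplement' Q P := hPQ.symm
  have hQ := (factor_sum_ge hPQ hcomm horb hPc inferInstance hQ1 (Char.trivialIrr Q)).1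
  have hP := (factor_sum_ge hQP (fun x hx y hy => (hcomm y hy x hx).symm) horb hQc inferInstance hP1
    (Char.trivialIrr P)).1
  have hne' : (commutator P).index ≠ (commutator Q).index := by
    intro e
    have h1 : (commutator P).index ∣ Nat.card P := Subgroup.index_dvd_card _
    have h2 : (commutator P).index ∣ Nat.card Q := e ▸ Subgroup.index_dvd_card _
    have := Nat.eq_one_of_dvd_coprimes hcop h1 h2
    have hd1 : (commutator P).index ≥ 2 := by
      haveI : Nontrivial P := (Subgroup.nontrivial_iff_ne_bot P).2 hP1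
      have := mt Subgroup.index_eq_one.1 (Group.IsSolvable.commutator_lt_top_of_nontrivial P).ne
      have := Subgroup.index_ne_zero_of_finite (H := commutator P)
      omega
    omega
  have hle : (commutator P).index * (commutator Q).index ≤ (commutator L).index := by
    have h := prod_sum_le hPQ hcomm (Finset.univ.filter fun a : Cfsg.IrrCharacter P => deg a = 1)
      (Finset.univ.filter fun b : Cfsg.IrrCharacter Q => deg b = 1)
      (Finset.univ.filter fun θ : Cfsg.IrrCharacter L => deg θ = 1)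
      (fun a ha b hb => by
        rw [Finset.mem_filter, deg_prodIrr, (Finset.mem_filter.1 ha).2, (Finset.mem_filter.1 hb).2]
        exact ⟨Finset.mem_univ _, rfl⟩)
    have hs : ∀ {K : Type u} [Group K] [Fintype K],
        ∑ a ∈ Finset.univ.filter (fun a : Cfsg.IrrCharacter K => deg a = 1), deg a ^ 2 =
          (commutator K).index := fun {K} _ _ => by
      rw [Finset.sum_congr rfl (fun β hβ => by rw [(Finset.mem_filter.1 hβ).2, one_pow]),
        ← Finset.card_eq_sum_ones, card_deg_one]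
    rwa [hs, hs, hs] at h
  rcases Nat.lt_or_gt_of_ne hne' with h | h
  · exact le_trans (Nat.mul_le_mul hP (show d + 2 ≤ _ by omega)) hle
  · rw [mul_comm (d + 1)]
    exact le_trans (Nat.mul_le_mul (show d + 2 ≤ _ by omega) hQ) hle

open Classical in
/-- The characters of smaller degree outweigh those of a given degree. -/
theorem sum_small_gt {d : ℕ} (hd : Odd d) (hd3 : 3 ≤ d) (hnil : Group.IsNilpotent L)
    (hne : Nontrivial L) (hpp : ¬ IsPrimePow (Nat.card L)) (horb : Orbits L d)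
    {θ : Cfsg.IrrCharacter L} (hθ : 1 < deg θ) :
    2 * d * deg θ + d + 1 <
      ∑ x ∈ Finset.univ.filter (fun x : Cfsg.IrrCharacter L => deg x < deg θ), deg x ^ 2 := by
  obtain ⟨p, hp, hpd⟩ := Nat.exists_prime_and_dvd hθ.ne'
  haveI := Fact.mk hp
  obtain ⟨P, Q, hPc, hPp, hQ1, hndvd, hPQ, hcomm⟩ := exists_split hnil hne hpp (p := p)
  haveI := hnil
  obtain ⟨α, β, rfl⟩ := exists_prodIrr hPQ hcomm θ
  rw [deg_prodIrr] at hpd hθ ⊢
  obtain ⟨k, hk⟩ := IsPGroup.iff_card.1 hPp
  obtain ⟨i, -, hi⟩ := (Nat.dvd_prime_pow hp).1 (hk ▸ deg_dvd_card α)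
  have hpβ : ¬ p ∣ deg β := fun h => hndvd (h.trans (deg_dvd_card β))
  have hi0 : 0 < i := by
    rcases Nat.eq_zero_or_pos i with rfl | h
    · rw [hi, pow_zero, one_mul] at hpd
      exact absurd hpd hpβ
    · exact h
  have hA := pow_le_sum_small hPp ⟨α, hi⟩ hi0
  obtain ⟨hlin, hlin2, hB⟩ := factor_sum_ge hPQ hcomm horb hPc inferInstance hQ1 β
  have hS := prod_sum_le hPQ hcomm
    (Finset.univ.filter fun a : Cfsg.IrrCharacter P => deg a < p ^ i)
    (Finset.univ.filter fun b : Cfsg.IrrCharacter Q => deg b ≤ deg β)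
    (Finset.univ.filter fun x : Cfsg.IrrCharacter L => deg x < deg α * deg β)
    (fun a ha b hb => by
      rw [Finset.mem_filter, deg_prodIrr, hi]
      exact ⟨Finset.mem_univ _, Nat.mul_lt_mul_of_lt_of_le (Finset.mem_filter.1 ha).2
        (Finset.mem_filter.1 hb).2 (deg_pos β)⟩)
  have key := (Nat.mul_le_mul hA hB).trans hS
  refine lt_of_lt_of_le ?_ key
  rw [hi, show p ^ (2 * i) = p ^ i * p ^ i by rw [two_mul, pow_add]]
  have hx2 : 2 ≤ p ^ i := hp.two_le.trans (Nat.le_self_pow hi0.ne' p)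
  by_cases hb1 : deg β = 1
  · rw [if_pos hb1, add_zero, hb1, mul_one]
    rcases Nat.lt_or_ge (p ^ i) 3 with hlt | hge
    · -- the complement has odd order
      have hp2 : p = 2 := by
        have := Nat.le_self_pow hi0.ne' p
        have := hp.two_le
        omega
      have hodd : Odd (Nat.card Q) := by
        rw [Nat.odd_iff, ← Nat.two_dvd_ne_zero]
        exact hp2 ▸ hndvd
      have hci : Odd (commutator Q).index := hodd.of_dvd_nat (Subgroup.index_dvd_card _)
      have hmore : d + 2 ≤ (commutator Q).index := by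
        obtain ⟨r, hr⟩ := hd
        obtain ⟨r', hr'⟩ := hci
        omega
      rw [show p ^ i = 2 by omega]
      have h1 : 2 * 2 * (2 * d + 1) ≤ 2 * 2 * (commutator Q).index :=
        Nat.mul_le_mul_left _ (hlin2 (by omega))
      refine lt_of_lt_of_le ?_ h1
      ring_nf
      omega
    · have h1 : 3 * p ^ i * (d + 1) ≤ p ^ i * p ^ i * (commutator Q).index :=
        Nat.mul_le_mul (Nat.mul_le_mul_right _ hge) hlin
      nlinarith [hd3, hge, h1]
  · rw [if_neg hb1]
    have hb2 : 2 ≤ deg β := by have := deg_pos β; omega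
    have h1 : d + 1 + d * deg β ^ 2 ≤ (commutator Q).index + d * deg β ^ 2 := by omega
    have h2 : 2 * d * deg β + 1 ≤ d + 1 + d * deg β ^ 2 := by
      have : d * (2 * deg β) ≤ d * (1 + deg β ^ 2) :=
        Nat.mul_le_mul_left d (by nlinarith [hb2])
      nlinarith
    have h3 : 2 * p ^ i * (2 * d * deg β + 1) ≤
        p ^ i * p ^ i * ((commutator Q).index + d * deg β ^ 2) :=
      Nat.mul_le_mul (Nat.mul_le_mul_right _ hx2) (h2.trans h1)
    refine lt_of_lt_of_le ?_ h3
    have h4 : 4 ≤ p ^ i * deg β := Nat.mul_le_mul hx2 hb2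
    nlinarith [Nat.mul_le_mul_left d h4, hx2]

end Cfsg.Agent.Zassenhaus
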