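import Cfsg.Agent.CharExt.FrobeniusChars
import Cfsg.Agent.CharInd.TI
import Cfsg.Agent.CharInd.GenChar
import Cfsg.Agent.CharInd.Clifford
import Cfsg.Agent.OddChar43.Frob
import Cfsg.Agent.Char.Linear
import Cfsg.Agent.Zassenhaus.KernelDegrees

/-!
# Characters of a group with a Frobenius subgroup whose kernel elements fix one point

`M` is a subgroup with normal subgroup `L` whose non-identity elements lie in a single conjugate of
`M`, and `M` has index one more than the order of `L`.
-/

set_option autoImplicit false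
set_option linter.style.haveILetI false
set_option linter.unusedSectionVars false
set_option linter.style.openClassical false

noncomputable section

open scoped ComplexConjugate Classical
open Cfsg.Agent.CharExt (KTriv)

namespace Cfsg.Agent.Zassenhaus

universe u

variable {G : Type u} [Group G] [Fintype G] {M : Subgroup G} [Fintype M] {L : Subgroup M} [L.Normal]

/-- The standing hypotheses: kernel elements fix one coset only, `L` contains its centralisers,
and the index is one more than the order of the kernel. -/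
structure TISetup (M : Subgroup G) (L : Subgroup M) : Prop where
  fix : ∀ k ∈ L, k ≠ 1 → ∀ x : G, x⁻¹ * (k : G) * x ∈ M → x ∈ M
  cent : ∀ k ∈ L, k ≠ 1 → Subgroup.centralizer ({k} : Set M) ≤ L
  index_eq : M.index = Nat.card L + 1

/-- The multiplicity of an irreducible character of the subgroup in one of the group. -/
def mult (ψ : Cfsg.IrrCharacter G) (η : Cfsg.IrrCharacter M) : ℕ :=
  Classical.choose (Char.isCharacter_classInner_nat
    (Char.isCharacter_restrict (Char.isCharacter_of_irr ψ.2) M) η)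

theorem mult_spec (ψ : Cfsg.IrrCharacter G) (η : Cfsg.IrrCharacter M) :
    Cfsg.classInner (fun x : M => (ψ : G → ℂ) x) (η : M → ℂ) = (mult ψ η : ℂ) :=
  Classical.choose_spec (Char.isCharacter_classInner_nat
    (Char.isCharacter_restrict (Char.isCharacter_of_irr ψ.2) M) η)

theorem inner_ind (ψ : Cfsg.IrrCharacter G) (η : Cfsg.IrrCharacter M) :
    Cfsg.classInner (ψ : G → ℂ) (Cfsg.indFun M (η : M → ℂ)) = (mult ψ η : ℂ) := by
  rw [CharInd.classInner_indFun_right M _ (Char.irr_isClassFunction ψ.2), mult_spec]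

theorem ind_inner (ψ : Cfsg.IrrCharacter G) (η : Cfsg.IrrCharacter M) :
    Cfsg.classInner (Cfsg.indFun M (η : M → ℂ)) (ψ : G → ℂ) = (mult ψ η : ℂ) := by
  rw [← Char.classInner_conj, inner_ind, map_natCast]

/-- The inner product of two induced irreducible characters counts common constituents. -/
theorem ind_inner_ind (η η' : Cfsg.IrrCharacter M) :
    Cfsg.classInner (Cfsg.indFun M (η : M → ℂ)) (Cfsg.indFun M (η' : M → ℂ)) =
      ((∑ ψ : Cfsg.IrrCharacter G, mult ψ η * mult ψ η' : ℕ) : ℂ) := by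
  rw [Char.classInner_eq_sum_mul_conj (CharInd.indFun_isClassFunction M _)]
  push_cast
  exact Finset.sum_congr rfl fun ψ _ => by rw [ind_inner, ind_inner, map_natCast]

theorem eq_zero_off (hS : TISetup M L) {η : Cfsg.IrrCharacter M} (hη : ¬ KTriv L η) (x : M)
    (hx : x ∉ L) : (η : M → ℂ) x = 0 :=
  CharExt.eq_zero_of_notMem L hS.cent hη hx

/-- An induced class function agrees with the original on the kernel. -/
theorem ind_apply (hS : TISetup M L) {f : M → ℂ} (hf : Cfsg.IsClassFunction M f) {k : M}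
    (hk : k ∈ L) (hk1 : k ≠ 1) : Cfsg.indFun M f (k : G) = f k := by
  classical
  have key : ∀ x : G, Cfsg.extendByZero M f (x⁻¹ * k * x) = if x ∈ M then f k else 0 := by
    intro x
    split_ifs with hx
    · have := CharInd.extendByZero_conj_mem M hf (M.inv_mem hx) (k : G)
      simpa [CharInd.extendByZero_mem M f k.2] using this
    · exact CharInd.extendByZero_notMem M f fun hm => hx (hS.fix k hk hk1 x hm)
  rw [CharInd.indFun_apply]
  simp only [key]
  rw [← Finset.sum_filter, Finset.sum_const, nsmul_eq_mul, ← Fintype.card_subtype,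
    ← Nat.card_eq_fintype_card, inv_mul_cancel_left₀ (Nat.cast_ne_zero.2 Nat.card_pos.ne')]

/-- Inner products of induced functions, one of them supported in the kernel. -/
theorem ind_inner_supp (hS : TISetup M L) {f h : M → ℂ} (hf : ∀ x, x ∉ L → f x = 0)
    (hh : Cfsg.IsClassFunction M h) :
    Cfsg.classInner (Cfsg.indFun M f) (Cfsg.indFun M h) =
      Cfsg.classInner f h + f 1 * conj (h 1) / (L.index : ℂ) := by
  classical
  rw [CharInd.classInner_indFun_left M f (CharInd.indFun_isClassFunction M h)]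
  simp only [Cfsg.classInner]
  have hsum : ∑ x : M, f x * conj (Cfsg.indFun M h (x : G)) =
      ∑ x : M, f x * conj (h x) + f 1 * conj (h 1) * (Nat.card L : ℂ) := by
    rw [← Finset.add_sum_erase _ _ (Finset.mem_univ (1 : M)),
      ← Finset.add_sum_erase Finset.univ (fun x => f x * conj (h x)) (Finset.mem_univ (1 : M)),
      Finset.sum_congr rfl (g := fun x => f x * conj (h x)) fun x hx => ?_]
    · rw [OneMemClass.coe_one, CharInd.indFun_one_apply, map_mul, map_natCast, hS.index_eq]
      push_cast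
      ring
    · by_cases hxL : x ∈ L
      · rw [ind_apply hS hh hxL (Finset.ne_of_mem_erase hx)]
      · rw [hf x hxL, zero_mul, zero_mul]
  rw [hsum, mul_add, ← Subgroup.card_mul_index L, Nat.cast_mul]
  have h1 : (Nat.card L : ℂ) ≠ 0 := Nat.cast_ne_zero.2 Nat.card_pos.ne'
  have h2 : (L.index : ℂ) ≠ 0 := Nat.cast_ne_zero.2 Subgroup.index_ne_zero_of_finite
  field_simp

/-! ### Characters induced from the kernel -/

/-- The irreducible character of `M` induced from a nontrivial one of `L`. -/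
def exIrr (hS : TISetup M L) (θ : Cfsg.IrrCharacter L) (hθ : θ ≠ Char.trivialIrr L) :
    Cfsg.IrrCharacter M :=
  ⟨Cfsg.indFun L (θ : L → ℂ),
    OddChar43.indFun_irr_of_fpf L hS.cent θ.2 fun e => hθ (Subtype.ext e)⟩

theorem deg_exIrr (hS : TISetup M L) (θ : Cfsg.IrrCharacter L) (hθ : θ ≠ Char.trivialIrr L) :
    deg (exIrr hS θ hθ) = L.index * deg θ := by
  have h := deg_spec (exIrr hS θ hθ)
  rw [show ((exIrr hS θ hθ : Cfsg.IrrCharacter M) : M → ℂ) = Cfsg.indFun L (θ : L → ℂ) from rfl,
    CharInd.indFun_one_apply, deg_spec] at h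
  exact_mod_cast h.symm

theorem res_exIrr_inner (hS : TISetup M L) (θ : Cfsg.IrrCharacter L) (hθ : θ ≠ Char.trivialIrr L)
    (θ' : Cfsg.IrrCharacter L) (hθ' : θ' ≠ Char.trivialIrr L) [Decidable (exIrr hS θ hθ = exIrr hS θ' hθ')] :
    Cfsg.classInner (fun k : L => (exIrr hS θ hθ : M → ℂ) k) (θ' : L → ℂ) =
      if exIrr hS θ hθ = exIrr hS θ' hθ' then 1 else 0 := by
  rw [← CharInd.classInner_indFun_right L (θ' : L → ℂ) (Char.irr_isClassFunction (exIrr hS θ hθ).2)]
  exact Char.classInner_irrCharacter (exIrr hS θ hθ) (exIrr hS θ' hθ')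

theorem exIrr_not_kTriv (hS : TISetup M L) (θ : Cfsg.IrrCharacter L)
    (hθ : θ ≠ Char.trivialIrr L) : ¬ KTriv L (exIrr hS θ hθ) := by
  classical
  intro hk
  have h1 := res_exIrr_inner hS θ hθ θ hθ
  rw [if_pos rfl, Cfsg.classInner, Finset.sum_congr rfl (fun (k : L) _ => by rw [hk k k.2]),
    ← Finset.mul_sum, ← map_sum, Char.irr_sum_eq_zero θ.2 (fun e => hθ (Subtype.ext e))] at h1
  simp at h1

theorem exists_exIrr (hS : TISetup M L) {η : Cfsg.IrrCharacter M} (hη : ¬ KTriv L η) :
    ∃ (θ : Cfsg.IrrCharacter L) (hθ : θ ≠ Char.trivialIrr L), exIrr hS θ hθ = η := by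
  obtain ⟨k, hk, hne⟩ : ∃ k ∈ L, (η : M → ℂ) k ≠ (η : M → ℂ) 1 := by
    simpa [KTriv] using hη
  obtain ⟨θ, hθ, hθ1, heq⟩ := OddChar43.exists_eq_indFun_of_fpf L hS.cent η.2 ⟨k, hk, hne⟩
  exact ⟨⟨θ, hθ⟩, fun e => hθ1 (congrArg Subtype.val e), Subtype.ext heq.symm⟩

open Classical in
/-- The characters of `L` inducing a given exceptional character. -/
def fiber (θ : Cfsg.IrrCharacter L) : Finset (Cfsg.IrrCharacter L) :=
  Finset.univ.filter fun θ' : Cfsg.IrrCharacter L => θ' ≠ Char.trivialIrr L ∧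
    Cfsg.indFun L (θ' : L → ℂ) = Cfsg.indFun L (θ : L → ℂ)

open Classical in
theorem card_fiber (hS : TISetup M L) (θ : Cfsg.IrrCharacter L) (hθ : θ ≠ Char.trivialIrr L) :
    (fiber θ).card = L.index := by
  set η := exIrr hS θ hθ
  have hη : ¬ KTriv L η := exIrr_not_kTriv hS θ hθ
  set a : L → ℂ := fun k => (η : M → ℂ) k with ha
  have hcl : Cfsg.IsClassFunction L a := fun g h => Char.irr_isClassFunction η.2 g h
  have h1 := Char.classInner_eq_sum_mul_conj (b := a) hcl
  have h2 : Cfsg.classInner a a = (L.index : ℂ) := by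
    show (Nat.card L : ℂ)⁻¹ * ∑ k : L, (η : M → ℂ) k * conj ((η : M → ℂ) k) = _
    rw [CharExt.sum_kernel_mul_conj L hS.cent hη,
      Char.classInner_irr_self η.2, mul_one, ← Subgroup.card_mul_index L, Nat.cast_mul,
      inv_mul_cancel_left₀ (Nat.cast_ne_zero.2 Nat.card_pos.ne')]
  have h3 : ∀ θ' : Cfsg.IrrCharacter L, Cfsg.classInner a (θ' : L → ℂ) =
      if θ' ∈ fiber θ then 1 else 0 := by
    intro θ'
    by_cases hθ' : θ' = Char.trivialIrr L
    · rw [if_neg (by simp [fiber, hθ']), hθ']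
      show (Nat.card L : ℂ)⁻¹ * ∑ k : L, (η : M → ℂ) k * conj (1 : ℂ) = 0
      simp only [map_one, mul_one]
      rw [CharExt.sum_kernel_eq_zero L hS.cent hη, mul_zero]
    · rw [ha, res_exIrr_inner hS θ hθ θ' hθ']
      refine if_congr ?_ rfl rfl
      simp only [fiber, Finset.mem_filter, Finset.mem_univ, true_and]
      exact ⟨fun e => ⟨hθ', (congrArg Subtype.val e).symm⟩, fun e => Subtype.ext e.2.symm⟩
  rw [h2, Finset.sum_congr rfl (g := fun θ' => if θ' ∈ fiber θ then (1 : ℂ) else 0)
    (fun θ' _ => by rw [h3]; split_ifs <;> simp), Finset.sum_boole] at h1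
  rw [Finset.filter_univ_mem] at h1
  exact_mod_cast h1.symm

open Classical in
theorem orbits (hS : TISetup M L) : Orbits L L.index := by
  refine ⟨fiber, fun θ hθ => ⟨by simp [fiber, hθ], card_fiber hS θ hθ, fun θ' hθ' => ?_⟩⟩
  obtain ⟨hθ'1, heq⟩ : θ' ≠ Char.trivialIrr L ∧
      Cfsg.indFun L (θ' : L → ℂ) = Cfsg.indFun L (θ : L → ℂ) := by simpa [fiber] using hθ'
  have hdeg : deg θ' = deg θ := by
    have h := congrFun heq 1
    rw [CharInd.indFun_one_apply, CharInd.indFun_one_apply, deg_spec, deg_spec] at h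
    exact_mod_cast mul_left_cancel₀ (Nat.cast_ne_zero.2 Subgroup.index_ne_zero_of_finite) h
  refine ⟨hθ'1, hdeg, by simp only [fiber, heq], fun K hK hker k hk => ?_⟩
  haveI := hK
  haveI : (K.map L.subtype).Normal := ConjAct.normal_of_characteristic_of_normal
  have hconj : ∀ x : M, (⟨x * (k : M) * x⁻¹, Subgroup.Normal.conj_mem inferInstance _ k.2 x⟩ : L) ∈ K := by
    intro x
    obtain ⟨w, hw, hwe⟩ := (inferInstance : (K.map L.subtype).Normal).conj_mem _
      ⟨k, hk, rfl⟩ x
    rw [show (⟨x * (k : M) * x⁻¹, Subgroup.Normal.conj_mem inferInstance _ k.2 x⟩ : L) = w from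
      Subtype.ext (show x * (k : M) * x⁻¹ = (w : M) from hwe.symm)]
    exact hw
  have h := congrFun heq (k : M)
  rw [CharInd.indFun_normal_mem, CharInd.indFun_normal_mem] at h
  have h' := mul_left_cancel₀ (inv_ne_zero (Nat.cast_ne_zero.2 Nat.card_pos.ne')) h
  rw [Finset.sum_congr rfl (s₁ := Finset.univ) (g := fun _ : M => (deg θ : ℂ))
    (f := fun x : M => (θ : L → ℂ) ⟨x * k * x⁻¹, _⟩) (fun x _ => by rw [hker _ (hconj x), deg_spec]),
    Finset.sum_const, nsmul_eq_mul] at h'
  -- each summand is bounded by the degree, so all are equal to it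
  have hre := congrArg Complex.re h'
  rw [Complex.re_sum] at hre
  have hbd : ∀ z : L, ((θ' : L → ℂ) z).re ≤ (deg θ : ℝ) := fun z => by
    refine (Complex.re_le_norm _).trans ((Char.isCharacter_norm_le (Char.isCharacter_of_irr θ'.2) z).trans_eq ?_)
    rw [deg_spec, hdeg, Complex.natCast_re]
  have hall := (Finset.sum_eq_sum_iff_of_le (fun x (_ : x ∈ (Finset.univ : Finset M)) =>
    hbd ⟨x * (k : M) * x⁻¹, Subgroup.Normal.conj_mem inferInstance _ k.2 x⟩)).1 (by
      rw [hre, Finset.sum_const, nsmul_eq_mul]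
      simp) 1 (Finset.mem_univ _)
  have e : (⟨(1 : M) * (k : M) * (1 : M)⁻¹, Subgroup.Normal.conj_mem inferInstance _ k.2 1⟩ : L) = k :=
    Subtype.ext (by simp)
  rw [e] at hall
  rw [deg_spec, hdeg]
  refine Complex.ext (by rw [hall, Complex.natCast_re]) ?_
  have hn := Char.isCharacter_norm_le (Char.isCharacter_of_irr θ'.2) k
  rw [deg_spec, hdeg, Complex.natCast_re] at hn
  have hsq := Complex.sq_norm ((θ' : L → ℂ) k)
  rw [Complex.normSq_apply, hall] at hsq
  have h0 : ((θ' : L → ℂ) k).im * ((θ' : L → ℂ) k).im ≤ 0 := by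
    nlinarith [norm_nonneg ((θ' : L → ℂ) k), Nat.cast_nonneg (α := ℝ) (deg θ)]
  rw [Complex.natCast_im]
  nlinarith

open Classical in
/-- Summing squares of degrees over the exceptional characters. -/
theorem sum_exceptional (hS : TISetup M L) (P : ℕ → Prop) [DecidablePred P] :
    ∑ η ∈ Finset.univ.filter (fun η : Cfsg.IrrCharacter M => ¬ KTriv L η ∧ P (deg η)), deg η ^ 2 =
      L.index * ∑ θ ∈ Finset.univ.filter (fun θ : Cfsg.IrrCharacter L =>
        θ ≠ Char.trivialIrr L ∧ P (L.index * deg θ)), deg θ ^ 2 := by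
  set S := Finset.univ.filter (fun η : Cfsg.IrrCharacter M => ¬ KTriv L η ∧ P (deg η))
  set T := Finset.univ.filter (fun θ : Cfsg.IrrCharacter L =>
    θ ≠ Char.trivialIrr L ∧ P (L.index * deg θ))
  let g : Cfsg.IrrCharacter L → Cfsg.IrrCharacter M := fun θ =>
    if h : θ = Char.trivialIrr L then Char.trivialIrr M else exIrr hS θ h
  have hg : ∀ θ ∈ T, g θ ∈ S := by
    intro θ hθ
    obtain ⟨h1, h2⟩ := (Finset.mem_filter.1 hθ).2
    simp only [g, dif_neg h1, S, Finset.mem_filter, Finset.mem_univ, true_and, deg_exIrr]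
    exact ⟨exIrr_not_kTriv hS θ h1, h2⟩
  rw [← Finset.sum_fiberwise_of_maps_to hg, Finset.mul_sum]
  refine Finset.sum_congr rfl fun η hη => ?_
  obtain ⟨hη1, hη2⟩ := (Finset.mem_filter.1 hη).2
  obtain ⟨θ₀, hθ₀, rfl⟩ := exists_exIrr hS hη1
  have hfib : T.filter (fun θ => g θ = exIrr hS θ₀ hθ₀) = fiber θ₀ := by
    ext θ
    simp only [T, fiber, Finset.mem_filter, Finset.mem_univ, true_and]
    constructor
    · rintro ⟨⟨h1, -⟩, he⟩
      rw [show g θ = exIrr hS θ h1 from dif_neg h1] at he
      exact ⟨h1, congrArg Subtype.val he⟩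
    · rintro ⟨h1, he⟩
      have he' : exIrr hS θ h1 = exIrr hS θ₀ hθ₀ := Subtype.ext he
      refine ⟨⟨h1, ?_⟩, (dif_neg h1).trans he'⟩
      rw [← deg_exIrr hS θ h1, he']
      exact hη2
  rw [hfib, Finset.sum_congr rfl (g := fun _ => deg θ₀ ^ 2) fun θ hθ => ?_, Finset.sum_const,
    card_fiber hS θ₀ hθ₀, smul_eq_mul, deg_exIrr]
  · ring
  · obtain ⟨h1, he⟩ := (Finset.mem_filter.1 hθ).2
    have he' : exIrr hS θ h1 = exIrr hS θ₀ hθ₀ := Subtype.ext he
    have := congrArg deg he'
    rw [deg_exIrr, deg_exIrr] at this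
    rw [Nat.eq_of_mul_eq_mul_left (Nat.pos_of_ne_zero Subgroup.index_ne_zero_of_finite) this]

open Classical in
/-- The number of exceptional characters of smallest degree. -/
theorem card_smallest (hS : TISetup M L) :
    (Finset.univ.filter fun η : Cfsg.IrrCharacter M => ¬ KTriv L η ∧ deg η = L.index).card * L.index
      + 1 = (commutator L).index := by
  have h := sum_exceptional hS (fun D => D = L.index)
  have hpos := Nat.pos_of_ne_zero (Subgroup.index_ne_zero_of_finite (H := L))
  have hset : (Finset.univ.filter fun θ : Cfsg.IrrCharacter L =>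
      θ ≠ Char.trivialIrr L ∧ L.index * deg θ = L.index) =
      (Finset.univ.filter fun θ : Cfsg.IrrCharacter L => deg θ = 1).erase (Char.trivialIrr L) := by
    ext θ
    simp only [Finset.mem_filter, Finset.mem_univ, true_and, Finset.mem_erase,
      mul_eq_left₀ hpos.ne']
  rw [hset, Finset.sum_congr rfl (g := fun _ => L.index ^ 2) (fun η hη => by
      rw [(Finset.mem_filter.1 hη).2.2]), Finset.sum_const, smul_eq_mul,
    Finset.sum_congr rfl (g := fun _ => 1) (fun θ hθ => by
      rw [(Finset.mem_filter.1 (Finset.mem_of_mem_erase hθ)).2, one_pow]), Finset.sum_const,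
    smul_eq_mul, mul_one, Finset.card_erase_of_mem (by simp [deg_trivialIrr]), card_deg_one] at h
  have hc : 0 < (commutator L).index := Nat.pos_of_ne_zero Subgroup.index_ne_zero_of_finite
  have h' : (Finset.univ.filter fun η : Cfsg.IrrCharacter M =>
      ¬ KTriv L η ∧ deg η = L.index).card * L.index = (commutator L).index - 1 :=
    Nat.eq_of_mul_eq_mul_left hpos (by rw [← h]; ring)
  omega

open Classical in
/-- Exceptional characters of the smallest degree are trivial on the derived kernel. -/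
theorem smallest_apply_commutator (hS : TISetup M L) {η : Cfsg.IrrCharacter M}
    (hη : ¬ KTriv L η) (hd : deg η = L.index) {k : L} (hk : k ∈ commutator L) :
    (η : M → ℂ) k = (η : M → ℂ) 1 := by
  obtain ⟨θ, hθ, rfl⟩ := exists_exIrr hS hη
  rw [deg_exIrr, mul_eq_left₀ Subgroup.index_ne_zero_of_finite] at hd
  have h1 : (θ : L → ℂ) 1 = 1 := by rw [deg_spec, hd, Nat.cast_one]
  show Cfsg.indFun L (θ : L → ℂ) (k : M) = Cfsg.indFun L (θ : L → ℂ) 1
  haveI : ((commutator L).map L.subtype).Normal := ConjAct.normal_of_characteristic_of_normal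
  rw [CharInd.indFun_normal_mem, CharInd.indFun_one_apply, h1, mul_one,
    Finset.sum_congr rfl (g := fun _ : M => (1 : ℂ)) fun x _ => ?_, Finset.sum_const,
    Finset.card_univ, nsmul_eq_mul, mul_one, ← Nat.card_eq_fintype_card,
    ← Subgroup.card_mul_index L, Nat.cast_mul,
    inv_mul_cancel_left₀ (Nat.cast_ne_zero.2 Nat.card_pos.ne')]
  obtain ⟨w, hw, hwe⟩ := (inferInstance : ((commutator L).map L.subtype).Normal).conj_mem _
    ⟨k, hk, rfl⟩ x
  rw [show (⟨x * (k : M) * x⁻¹, Subgroup.Normal.conj_mem inferInstance _ k.2 x⟩ : L) = w from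
    Subtype.ext (show x * (k : M) * x⁻¹ = (w : M) from hwe.symm)]
  exact Char.linear_eq_one_of_mem_commutator (Char.isCharacter_of_irr θ.2) h1 hw

end Cfsg.Agent.Zassenhaus
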